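import Cfsg.Agent.H318.RepBound
import Cfsg.Agent.Co2Type.Quad
import Cfsg.Agent.KFacts.LargeO2

/-!
# Representations of a central extension of a group with a large irreducible extraspecial subgroup (helper318)

`T` with `Large Q z`, `Irr Q z`, `Q` a 2-group, `C_T(z)` perfect; `π : A → T` a central extension: a faithful
representation of `A` in characteristic other than two has degree `n` with `|Q : ⟨z⟩| ≤ n ^ 2`.
-/

set_option autoImplicit false

namespace Cfsg.Agent.H318.RepLarge

open Subgroup Cfsg.Agent.H318.RepBound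
open Cfsg.Agent.Co2Type.Quad (Large)
open Cfsg.Agent.KFacts.LargeO2 (Irr)
open scoped commutatorElement

universe u v w

variable {T : Type u} [Group T] {Q : Subgroup T} {z : T} {A : Type v} [Group A]

/-- an element commuting modulo the centre with a subgroup perfect modulo the centre commutes with it -/
theorem comm_of_perfect {π : A →* T} (hπ : Function.Surjective π) (hk : π.ker ≤ center A) {P : Subgroup T} (hP : ⁅P, P⁆ = P) {c : A}
    (hc : ∀ p ∈ P, π c * p = p * π c) {p : A} (hp : π p ∈ P) : c * p = p * c := by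
  have hker : ∀ x : A, π x = 1 → ∀ y : A, y * x = x * y := fun x hx y => mem_center_iff.1 (hk (MonoidHom.mem_ker.2 hx)) y
  let D : Subgroup A := centralizer {c}
  have hmD : ∀ x : A, x ∈ D ↔ x * c = c * x := fun x => mem_centralizer_singleton_iff
  have h1 : ⁅P.comap π, P.comap π⁆ ≤ D := by
    rw [commutator_le]
    intro a ha b hb
    rw [hmD]
    have key : ∀ x : A, π x ∈ P → ∃ n : A, π n = 1 ∧ c * x * c⁻¹ = x * n := by
      intro x hx
      refine ⟨x⁻¹ * (c * x * c⁻¹), ?_, by group⟩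
      rw [map_mul, map_mul, map_mul, map_inv, map_inv, hc _ hx]
      group
    obtain ⟨m, hm, hm'⟩ := key a ha
    obtain ⟨n, hn, hn'⟩ := key b hb
    have e : c * ⁅a, b⁆ * c⁻¹ = ⁅a, b⁆ := by
      have e1 : c * ⁅a, b⁆ * c⁻¹ = ⁅c * a * c⁻¹, c * b * c⁻¹⁆ := by
        simp only [commutatorElement_def]; group
      rw [e1, hm', hn']
      have hm1 : ∀ y, y * m = m * y := hker m hm
      have hn1 : ∀ y, y * n = n * y := hker n hn
      calc ⁅a * m, b * n⁆ = a * (m * (b * n)) * (m⁻¹ * a⁻¹) * (n⁻¹ * b⁻¹) := by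
            simp only [commutatorElement_def]; group
        _ = a * ((b * n) * m) * (m⁻¹ * a⁻¹) * (n⁻¹ * b⁻¹) := by rw [hm1 (b * n)]
        _ = a * b * (n * a⁻¹) * (n⁻¹ * b⁻¹) := by group
        _ = a * b * (a⁻¹ * n) * (n⁻¹ * b⁻¹) := by rw [hn1 a⁻¹]
        _ = ⁅a, b⁆ := by simp only [commutatorElement_def]; group
    calc ⁅a, b⁆ * c = (c * ⁅a, b⁆ * c⁻¹) * c := by rw [e]
      _ = c * ⁅a, b⁆ := by group
  have h2 : π p ∈ (⁅P.comap π, P.comap π⁆).map π := by
    rw [map_commutator, map_comap_eq_self_of_surjective hπ, hP]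
    exact hp
  obtain ⟨q, hq, hqp⟩ := h2
  have h3 : q * c = c * q := (hmD q).1 (h1 hq)
  have h4 : ∀ y, y * (q⁻¹ * p) = (q⁻¹ * p) * y := hker _ (by rw [map_mul, map_inv, hqp, inv_mul_cancel])
  calc c * p = c * q * (q⁻¹ * p) := by group
    _ = q * (c * (q⁻¹ * p)) := by rw [← h3]; group
    _ = q * ((q⁻¹ * p) * c) := by rw [h4 c]
    _ = p * c := by group

theorem mem_zpowers_iff (hL : Large Q z) {x : T} : x ∈ zpowers z ↔ x = 1 ∨ x = z := by
  constructor
  · rintro ⟨k, rfl⟩
    rcases Int.even_or_odd' k with ⟨m, rfl | rfl⟩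
    · left
      change z ^ (2 * m) = 1
      rw [zpow_mul, zpow_two, hL.z_sq, one_zpow]
    · right
      change z ^ (2 * m + 1) = z
      rw [zpow_add, zpow_mul, zpow_two, hL.z_sq, one_zpow, one_mul, zpow_one]
  · rintro (rfl | rfl)
    · exact one_mem _
    · exact mem_zpowers _

/-- **The Heisenberg section of a central extension.** -/
theorem heis (hL : Large Q z) (hI : Irr Q z) (hP : ⁅centralizer ({z} : Set T), centralizer ({z} : Set T)⁆ =
    centralizer ({z} : Set T)) (hne : ∃ x ∈ Q, x ≠ 1 ∧ x ≠ z) {π : A →* T} (hπ : Function.Surjective π)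
    (hk : π.ker ≤ center A) :
    Heis ((zpowers z).comap π) (Q.comap π) ((centralizer ({z} : Set T)).comap π) := by
  have hzQ : zpowers z ≤ Q := (zpowers_le).2 hL.z_mem
  have hQP : Q ≤ centralizer ({z} : Set T) := fun x hx => mem_centralizer_singleton_iff.2 (hL.comm_z x hx)
  refine ⟨comap_mono hzQ, comap_mono hQP, ?_, ?_, ?_, ?_, ?_⟩
  · intro c hc p hp
    refine comm_of_perfect hπ hk hP ?_ hp
    intro q hq
    have h1 : π c ∈ zpowers z := hc
    have h2 : q * z = z * q := mem_centralizer_singleton_iff.1 hq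
    rcases (mem_zpowers_iff hL).1 h1 with h | h
    · rw [h, one_mul, mul_one]
    · rw [h, h2]
  · intro x hx y hy
    change π ⁅x, y⁆ ∈ zpowers z
    rw [map_commutatorElement, mem_zpowers_iff hL]
    rcases hL.comm _ hx _ hy with h | h
    · left
      exact commutatorElement_eq_one_iff_mul_comm.2 h
    · right
      have hz : (π x)⁻¹ * (π y)⁻¹ * z = z * ((π x)⁻¹ * (π y)⁻¹) :=
        hL.comm_z _ (Q.mul_mem (Q.inv_mem hx) (Q.inv_mem hy))
      calc ⁅π x, π y⁆ = (π x * π y) * ((π x)⁻¹ * (π y)⁻¹) := by rw [commutatorElement_def]; group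
        _ = π y * π x * (z * ((π x)⁻¹ * (π y)⁻¹)) := by rw [h]; group
        _ = z := by rw [← hz]; group
  · obtain ⟨x, hx, hx1, hxz⟩ := hne
    obtain ⟨y, hy, hxy⟩ : ∃ y ∈ Q, x * y ≠ y * x := by
      by_contra hcon
      push Not at hcon
      rcases hL.cent x hx hcon with h | h
      · exact hx1 h
      · exact hxz h
    obtain ⟨a, rfl⟩ := hπ x
    obtain ⟨b, rfl⟩ := hπ y
    refine ⟨a, hx, b, hy, fun h => hxy ?_⟩
    have := congrArg π h
    rw [map_commutatorElement, map_one, commutatorElement_eq_one_iff_mul_comm] at this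
    exact this
  · intro p hp x hx
    change π (p * x * p⁻¹) ∈ Q
    rw [map_mul, map_mul, map_inv]
    exact hL.conj_mem _ (mem_centralizer_singleton_iff.1 hp) _ hx
  · intro S hS1 hS2 hS3
    have hkS : π.ker ≤ S := fun x hx => hS1 (by
      change π x ∈ zpowers z
      rw [MonoidHom.mem_ker.1 hx]
      exact one_mem _)
    have hSS : (S.map π).comap π = S := comap_map_eq_self hkS
    rcases hI (S.map π) (by
      rintro _ ⟨s, hs, rfl⟩
      exact hS2 hs) (by
      rintro u hu _ ⟨s, hs, rfl⟩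
      obtain ⟨p, rfl⟩ := hπ u
      exact ⟨p * s * p⁻¹, hS3 p (mem_centralizer_singleton_iff.2 hu) s hs, by rw [map_mul, map_mul, map_inv]⟩) with h | h
    · left
      refine le_antisymm ?_ hS1
      intro s hs
      change π s ∈ zpowers z
      rw [mem_zpowers_iff hL]
      exact h _ ⟨s, hs, rfl⟩
    · right
      rw [← hSS, h]

/-- lifts of 2-power order -/
theorem exists_lift [Finite A] {π : A →* T} {a : A} {k : ℕ} (ha : π a ^ 2 ^ k = 1) :
    ∃ b : A, π b = π a ∧ ∃ j, b ^ 2 ^ j = 1 := by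
  obtain ⟨j, m, hm, hjm⟩ := Nat.exists_eq_two_pow_mul_odd (orderOf_pos a).ne'
  have hcop : Nat.Coprime m (2 ^ k) := (Nat.coprime_two_right.2 hm).pow_right k
  have h1 : m ^ (2 ^ k).totient ≡ 1 [MOD 2 ^ k] := Nat.ModEq.pow_totient hcop
  have h0 : 0 < (2 ^ k).totient := Nat.totient_pos.2 (by positivity)
  refine ⟨a ^ m ^ (2 ^ k).totient, ?_, j, ?_⟩
  · rw [map_pow]
    have h2 : orderOf (π a) ∣ 2 ^ k := orderOf_dvd_of_pow_eq_one ha
    have h3 : π a ^ m ^ (2 ^ k).totient = π a ^ 1 := pow_eq_pow_iff_modEq.2 (h1.of_dvd h2)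
    rw [h3, pow_one]
  · rw [← pow_mul, ← orderOf_dvd_iff_pow_eq_one, hjm, mul_comm]
    exact Nat.mul_dvd_mul_right (dvd_pow_self m h0.ne') _

/-- **The bound on the degree.** -/
theorem card_le [Finite A] (hL : Large Q z) (hI : Irr Q z)
    (hP : ⁅centralizer ({z} : Set T), centralizer ({z} : Set T)⁆ = centralizer ({z} : Set T))
    (hne : ∃ x ∈ Q, x ≠ 1 ∧ x ≠ z) {π : A →* T} (hπ : Function.Surjective π)
    (hk : π.ker ≤ center A) (h2 : IsPGroup 2 ↥Q) {F : Type w} [Field F] (hF : (2 : F) ≠ 0) {ι : Type*} [Fintype ι]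
    [DecidableEq ι] (ρ : A →* Matrix.GeneralLinearGroup ι F) (hρ : Function.Injective ρ) :
    (zpowers z).relIndex Q ≤ Fintype.card ι ^ 2 := by
  let K := AlgebraicClosure F
  let σ : Representation K A (ι → K) :=
    ((Matrix.toLinAlgEquiv' : Matrix ι ι K ≃ₐ[K] _).toAlgHom.toRingHom.toMonoidHom.comp
      (Units.coeHom (Matrix ι ι K))).comp ((Matrix.GeneralLinearGroup.map (algebraMap F K)).comp ρ)
  have hσ : Function.Injective σ := by
    intro x y hxy
    apply hρ
    have h3 := (Matrix.toLinAlgEquiv' : Matrix ι ι K ≃ₐ[K] _).injective hxy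
    have h4 : Matrix.GeneralLinearGroup.map (algebraMap F K) (ρ x) = Matrix.GeneralLinearGroup.map (algebraMap F K) (ρ y) :=
      Units.ext h3
    apply Units.ext
    ext i j
    have h5 := congrArg (fun g : Matrix.GeneralLinearGroup ι K => (g : Matrix ι ι K) i j) h4
    exact (algebraMap F K).injective h5
  have h := heis hL hI hP hne hπ hk
  have h6 := h.bound σ hσ (by
    obtain ⟨x, hx, hx1, hxz⟩ := hne
    obtain ⟨y, hy, hxy⟩ : ∃ y ∈ Q, x * y ≠ y * x := by
      by_contra hcon
      push Not at hcon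
      rcases hL.cent x hx hcon with h | h
      · exact hx1 h
      · exact hxz h
    obtain ⟨a', rfl⟩ := hπ x
    obtain ⟨b, rfl⟩ := hπ y
    obtain ⟨k, hk⟩ := h2 ⟨π a', hx⟩
    obtain ⟨a, ha, j, hj⟩ := exists_lift (π := π) (a := a') (k := k) (congrArg Subtype.val hk)
    rw [← ha] at hx hxy
    refine ⟨a, hx, b, hy, fun h => hxy ?_, ?_⟩
    · have := congrArg π h
      rw [map_commutatorElement, map_one, commutatorElement_eq_one_iff_mul_comm] at this
      exact this
    · have hc : ∀ n : ℕ, ⁅a ^ n, b⁆ = ⁅a, b⁆ ^ n := by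
        intro n
        induction n with
        | zero => simp
        | succ n ih =>
          have h7 := h.cen _ (h.comm a hx b hy) (a ^ n) (pow_mem (h.RP hx) n)
          have h8 : ⁅a ^ (n + 1), b⁆ = a ^ n * ⁅a, b⁆ * (a ^ n)⁻¹ * ⁅a ^ n, b⁆ := by
            rw [pow_succ]
            simp only [commutatorElement_def]; group
          rw [h8, ← h7, mul_inv_cancel_right, ih, pow_succ']
      have h9 : ⁅a, b⁆ ^ 2 ^ j = 1 := by
        rw [← hc, hj]
        simp
      obtain ⟨i, -, hi⟩ := (Nat.dvd_prime_pow Nat.prime_two).1 (orderOf_dvd_of_pow_eq_one h9)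
      rw [hi, Nat.cast_pow]
      apply pow_ne_zero
      intro h0
      apply hF
      apply (algebraMap F K).injective
      rw [map_zero, map_ofNat]
      exact_mod_cast h0)
  rw [Module.finrank_fintype_fun_eq_card] at h6
  rw [relIndex_comap, map_comap_eq_self_of_surjective hπ] at h6
  exact h6

end Cfsg.Agent.H318.RepLarge
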