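import Cfsg.Agent.H318.Six
import Cfsg.Agent.KFacts.TwF4.Full

/-!
# Elements of order six in `²F₄(q)` and the Tits group (helper318)
-/

set_option autoImplicit false
set_option linter.unusedSectionVars false

namespace Cfsg.Agent.H318

open Cfsg Cfsg.Lie Cfsg.Agent.KFacts.TwF4

namespace TwF

variable {F : Type*} [Field F] {σ : F →+* F} {G : Type*} [Group G] (S : Full σ G)

theorem o_zero (a : ZMod 8) : S.o a 0 = 1 := by
  have h := S.o_add a 0 0
  rw [add_zero] at h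
  simpa using h

theorem e_zero (a : ZMod 8) : S.e a 0 0 = 1 := by
  have h := S.e_mul a 0 0 0 0
  rw [add_zero, map_zero, mul_zero, add_zero] at h
  simpa using h

theorem o_ne (a : ZMod 8) : S.o a 1 ≠ 1 := by
  intro h
  have h1 := S.injO a (h.trans (o_zero S a).symm)
  exact one_ne_zero h1

theorem e_ne (a : ZMod 8) : S.e a 0 1 ≠ 1 := by
  intro h
  have h1 := S.injE a _ _ _ _ (h.trans (e_zero S a).symm)
  exact one_ne_zero h1.2

theorem o_sq (a : ZMod 8) : S.o a 1 * S.o a 1 = 1 := by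
  rw [S.o_add]
  have : (1 : F) + 1 = 0 := by rw [← S.two]; norm_num
  rw [this, o_zero]

theorem o_ne_succ (a : ZMod 8) : S.o (a + 1) 1 ≠ S.o a 1 := by
  intro h
  have h1 := S.e_o1 a 1 0 1
  have h2 := S.e_o0 a 1 0 1
  rw [h, h2] at h1
  have h3 : S.e (a + 1) 0 (1 * 1) = 1 := by
    have h4 : S.o a 1 * S.e a 1 0 = S.o a 1 * S.e a 1 0 * S.e (a + 1) 0 (1 * 1) := h1
    exact (mul_eq_left (a := S.o a 1 * S.e a 1 0)).1 h4.symm
  rw [one_mul] at h3
  exact e_ne S _ h3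

/-- `o 0 1 ≠ o 4 1` -/
theorem o_ne_four : S.o 0 1 ≠ S.o 4 1 := by
  intro h
  have h1 := S.o_o3 1 1 1
  have h2 := S.o_o1 0 1 1
  have e1 : (0 : ZMod 8) + 1 = 1 := by decide
  have e4 : (1 : ZMod 8) + 3 = 4 := by decide
  have e2 : (1 : ZMod 8) + 1 = 2 := by decide
  have e3 : (1 : ZMod 8) + 2 = 3 := by decide
  rw [e1] at h2
  rw [e4, e2, e3, ← h, ← h2, map_one, one_mul] at h1
  have h3 : S.o 2 1 * S.o 3 1 = 1 := by
    rw [mul_assoc] at h1
    exact (mul_eq_left (a := S.o 0 1 * S.o 1 1)).1 h1.symm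
  have h4 : S.o 3 1 = S.o 2 1 := by
    have h5 : S.o 3 1 * S.o 3 1 = 1 := o_sq S 3
    exact mul_right_cancel (h5.trans h3.symm)
  have e5 : (2 : ZMod 8) + 1 = 3 := by decide
  exact o_ne_succ S 2 (by rw [e5]; exact h4)

theorem cube : S.o 0 1 * S.o 4 1 * (S.o 0 1 * S.o 4 1) * (S.o 0 1 * S.o 4 1) = 1 := by
  have h1 := S.n1_o 0 1
  have e4 : (4 : ZMod 8) - 0 = 4 := by decide
  rw [e4] at h1
  have hn : S.n1⁻¹ = S.n1 := inv_eq_of_mul_eq_one_left S.n1_sq
  rw [hn, S.n1_word] at h1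
  have hu := o_sq S 0
  have hv := o_sq S 4
  generalize S.o 0 1 = u at *
  generalize S.o 4 1 = v at *
  have h2 : u * v * u * v * u = v := by
    calc u * v * u * v * u = u * v * (u * u) * u * v * u := by rw [hu, mul_one]
      _ = u * v * u * u * (u * v * u) := by simp only [mul_assoc]
      _ = v := h1
  calc u * v * (u * v) * (u * v) = (u * v * u * v * u) * v := by simp only [mul_assoc]
    _ = v * v := by rw [h2]
    _ = 1 := hv

/-- the involution and the element of order three -/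
theorem exists_pair : ∃ x y : G, x * y = y * x ∧ x ≠ 1 ∧ x * x = 1 ∧ y ≠ 1 ∧ y * y * y = 1 ∧ x = S.o 2 1 ∧
    y = S.o 0 1 * S.o 4 1 := by
  refine ⟨S.o 2 1, S.o 0 1 * S.o 4 1, ?_, o_ne S 2, o_sq S 2, ?_, cube S, rfl, rfl⟩
  · have h1 := S.o_o2 0 1 1
    have h2 := S.o_o2 2 1 1
    have e1 : (0 : ZMod 8) + 2 = 2 := by decide
    have e2 : (2 : ZMod 8) + 2 = 4 := by decide
    rw [e1] at h1
    rw [e2] at h2
    rw [← mul_assoc, ← h1, mul_assoc, h2, mul_assoc]
  · intro h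
    have hv : S.o 4 1 * S.o 4 1 = 1 := o_sq S 4
    exact o_ne_four S (mul_right_cancel (h.trans hv.symm))

include S in
theorem six : Six G := by
  obtain ⟨x, y, h1, h2, h3, h4, h5, -, -⟩ := exists_pair S
  exact ⟨x, y, h1, h2, h3, h4, h5⟩

open scoped commutatorElement in
/-- root elements of odd type lie in the derived subgroup -/
theorem o_mem (a : ZMod 8) : S.o a 1 ∈ commutator G := by
  have h1 := S.e_e1 a 1 0 1 0
  rw [one_mul] at h1
  have h2 : S.o a 1 = ⁅(S.e a 1 0)⁻¹, (S.e (a + 1) 1 0)⁻¹⁆ := by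
    rw [commutatorElement_def, inv_inv, inv_inv]
    calc S.o a 1 = (S.e (a + 1) 1 0 * S.e a 1 0)⁻¹ * (S.e (a + 1) 1 0 * S.e a 1 0 * S.o a 1) := by group
      _ = (S.e (a + 1) 1 0 * S.e a 1 0)⁻¹ * (S.e a 1 0 * S.e (a + 1) 1 0) := by rw [← h1]
      _ = _ := by group
  rw [h2]
  exact Subgroup.commutator_mem_commutator (Subgroup.mem_top _) (Subgroup.mem_top _)

include S in
theorem six_commutator : Six (commutator G) := by
  obtain ⟨x, y, h1, h2, h3, h4, h5, hx, hy⟩ := exists_pair S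
  have hx' : x ∈ commutator G := by rw [hx]; exact o_mem S 2
  have hy' : y ∈ commutator G := by rw [hy]; exact mul_mem (o_mem S 0) (o_mem S 4)
  exact ⟨⟨x, hx'⟩, ⟨y, hy'⟩, Subtype.ext h1, fun h => h2 (congrArg Subtype.val h), Subtype.ext h3,
    fun h => h4 (congrArg Subtype.val h), Subtype.ext h5⟩

end TwF

open Cfsg.Agent.ChevalleyStructure.TwF4.TwistedFix

theorem charTwo_of_card {K : Type*} [Field K] [Fintype K] {n : ℕ} (hK : Fintype.card K = 2 ^ n) : CharP K 2 := by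
  have : Fact (Nat.Prime 2) := ⟨Nat.prime_two⟩
  exact charP_of_card_eq_prime_pow hK

variable {G : Type*} [Group G]

/-- `²F₄(q)`, `q ≥ 8` -/
theorem six_twF4 (h : Iso2F4 G) : Six G := by
  obtain ⟨K, _, _, m, -, hK, ⟨e⟩⟩ := h
  have := charTwo_of_card hK
  obtain ⟨φ, hφ⟩ := exists_rln hK
  exact (TwF.six (Inst.full hK hφ)).congr e.symm

/-- the Tits group -/
theorem six_tits (h : IsoTits G) : Six G := by
  obtain ⟨e⟩ := h
  have hK : Fintype.card (ZMod 2) = 2 ^ (2 * 0 + 1) := by rw [ZMod.card]; norm_num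
  obtain ⟨φ, hφ⟩ := exists_rln hK
  exact (TwF.six_commutator (Inst.full hK hφ)).congr e.symm

end Cfsg.Agent.H318
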