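import Cfsg.Agent.H318.JOneD
import Cfsg.Agent.StrongEmb.Frame
import Cfsg.Agent.StrongEmb.Strong
import Cfsg.Agent.S1169
import Cfsg.Agent.S0506
import Cfsg.Agent.S1740
import Cfsg.Agent.StdL2.JOne
import Cfsg.Agent.TwoURows.Main
import Cfsg.Agent.ClassicalGeometry.PSL2Basic

/-!
# Weak closure `Z₂ × A₅`: the simple case (helper318)
-/

set_option autoImplicit false
set_option linter.unusedSectionVars false

namespace Cfsg.Agent.H318.JOne

open Subgroup TwoFive

variable {G : Type*} [Group G] [Finite G] {t : G} {S : Sylow 2 G}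

/-- strong embedding from the criterion through involutions -/
theorem stronglyEmbedded_of_se {M : Subgroup G} (h : TwoURows.SE M) : Cfsg.IsStronglyEmbedded M := by
  refine ⟨h.ne_top, ?_, ?_⟩
  · obtain ⟨t, ht, h1, h1'⟩ := h.inv
    have ho : orderOf (⟨t, ht⟩ : M) = 2 := by
      apply orderOf_eq_prime
      · ext
        simpa [pow_two] using h1
      · intro e
        exact h1' (congrArg Subtype.val e)
    rw [even_iff_two_dvd, ← ho]
    exact orderOf_dvd_natCard _
  · intro g hg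
    rw [← Nat.not_even_iff_odd, even_iff_two_dvd]
    intro hd
    obtain ⟨x, hx⟩ := exists_prime_orderOf_dvd_card' (G := ↥(M ⊓ M.map (MulAut.conj g).toMonoidHom)) 2 hd
    have hx2 : x * x = 1 := by
      rw [← pow_two, ← hx, pow_orderOf_eq_one]
    have hx1 : x ≠ 1 := by
      rintro rfl
      rw [orderOf_one] at hx
      omega
    apply hg
    refine h.mem g x x.2.1 ?_ ?_ ?_
    · obtain ⟨y, hy, hyx⟩ := x.2.2
      have : g⁻¹ * (x : G) * g = y := by
        rw [← hyx]
        change g⁻¹ * (g * y * g⁻¹) * g = y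
        group
      rw [this]
      exact hy
    · exact congrArg Subtype.val hx2
    · intro e
      exact hx1 (Subtype.ext e)

/-- the `A₅` in `W` -/
def AW (e : wc t ≃* K) : Subgroup G :=
  ((MonoidHom.fst (Multiplicative (ZMod 2)) A5).ker.comap e.toMonoidHom).map (wc t).subtype

theorem mem_AW {e : wc t ≃* K} {x : G} : x ∈ AW e ↔ ∃ hx : x ∈ wc t, (e ⟨x, hx⟩).1 = 1 := by
  constructor
  · rintro ⟨y, hy, rfl⟩
    exact ⟨y.2, hy⟩
  · rintro ⟨hx, h1⟩
    exact ⟨⟨x, hx⟩, h1, rfl⟩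

/-- the isomorphism with `A₅` -/
noncomputable def eAW (e : wc t ≃* K) : A5 ≃* AW e :=
  MulEquiv.ofBijective
    ({ toFun := fun a => ⟨e.symm (1, a), mem_AW.2 ⟨(e.symm (1, a)).2, by simp⟩⟩
       map_one' := by
        apply Subtype.ext
        change ((e.symm (1, 1) : wc t) : G) = 1
        have : ((1, 1) : K) = 1 := rfl
        rw [this, map_one]
        rfl
       map_mul' := fun a b => by
        apply Subtype.ext
        change ((e.symm (1, a * b) : wc t) : G) = (e.symm (1, a) : wc t) * (e.symm (1, b) : wc t)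
        have : ((1, a * b) : K) = (1, a) * (1, b) := by simp
        rw [this, map_mul]
        rfl } : A5 →* AW e)
    ⟨by
      intro a b hab
      have h1 : ((e.symm (1, a) : wc t) : G) = ((e.symm (1, b) : wc t) : G) :=
        congrArg (fun z : AW e => (z : G)) hab
      have h2 := e.symm.injective (Subtype.ext h1)
      exact congrArg Prod.snd h2,
    by
      rintro ⟨x, hx⟩
      obtain ⟨hxw, h1⟩ := mem_AW.1 hx
      refine ⟨(e ⟨x, hxw⟩).2, ?_⟩
      apply Subtype.ext
      change ((e.symm (1, (e ⟨x, hxw⟩).2) : wc t) : G) = x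
      have h2 : ((1, (e ⟨x, hxw⟩).2) : K) = e ⟨x, hxw⟩ := Prod.ext h1.symm rfl
      rw [h2, MulEquiv.symm_apply_apply]⟩

theorem card_AW (e : wc t ≃* K) : Nat.card (AW e) = 60 := by
  rw [← Nat.card_congr (eAW e).toEquiv, card_A]

theorem simple_AW (e : wc t ≃* K) : IsSimpleGroup (AW e) := by
  have : Nontrivial (AW e) := (eAW e).symm.toEquiv.nontrivial
  exact IsSimpleGroup.isSimpleGroup_of_surjective (eAW e).toMonoidHom (eAW e).surjective

/-- `A` is normalised by `C(t)` -/
theorem conj_mem_AW (e : wc t ≃* K) {g : G} (hg : g * t = t * g) {a : G} (ha : a ∈ AW e) :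
    g * a * g⁻¹ ∈ AW e := by
  obtain ⟨haw, ha1⟩ := mem_AW.1 ha
  refine mem_AW.2 ⟨conj_mem hg haw, ?_⟩
  -- conjugation by `g` on `W`
  let φ : wc t →* wc t :=
    { toFun := fun w => ⟨g * w * g⁻¹, conj_mem hg w.2⟩
      map_one' := by apply Subtype.ext; change g * 1 * g⁻¹ = 1; group
      map_mul' := fun a b => by
        apply Subtype.ext
        change g * (a * b : G) * g⁻¹ = g * a * g⁻¹ * (g * b * g⁻¹)
        group }
  rw [← K_comm]
  have h1 : (⟨a, haw⟩ : wc t) ∈ commutator (wc t) := by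
    have h2 : e ⟨a, haw⟩ ∈ commutator K := K_comm.2 ha1
    have h3 : (commutator K).map e.symm.toMonoidHom ≤ commutator (wc t) := by
      rw [commutator_def, commutator_def, Subgroup.map_commutator]
      exact Subgroup.commutator_mono le_top le_top
    have h4 := h3 ⟨_, h2, rfl⟩
    have h5 : e.symm.toMonoidHom (e ⟨a, haw⟩) = ⟨a, haw⟩ := e.symm_apply_apply _
    rwa [h5] at h4
  have h2 : (commutator (wc t)).map (e.toMonoidHom.comp φ) ≤ commutator K := by
    rw [commutator_def, commutator_def, Subgroup.map_commutator]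
    exact Subgroup.commutator_mono le_top le_top
  exact h2 ⟨_, h1, rfl⟩

theorem exists_pair : ∃ a b : A5, a * a = 1 ∧ b * b = 1 ∧ (a * b) * (a * b) * (a * b) = 1 ∧ a * b ≠ 1 := by
  decide +kernel

namespace Hyp

theorem not_isMulCommutative (h : Hyp t S) : ¬ IsMulCommutative G := by
  intro hc
  obtain ⟨x, -, y, -, hxy⟩ := h.exists_not_comm
  exact hxy (hc.is_comm.comm x y)

theorem not_stronglyEmbedded [IsSimpleGroup G] (h : Hyp t S) (H : Subgroup G)
    (hH : Cfsg.IsStronglyEmbedded H) : False := by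
  obtain ⟨e⟩ := h.iso
  have hna : ∃ a b : G, a * b ≠ b * a := by
    obtain ⟨x, -, y, -, hxy⟩ := h.exists_not_comm
    exact ⟨x, y, hxy⟩
  obtain ⟨Q, hQ, hQ2⟩ := StrongEmb.Strong.exists_isSplit hna H hH
  obtain ⟨s, hs, hs2⟩ := TwoFusion.StronglyEmbeddedBasic.exists_involution hH
  obtain ⟨g, hg⟩ := isConj_iff.1 (TwoFusion.StronglyEmbeddedBasic.isConj_of_involutions hH t s h.ht hs2)
  have key : ∀ w ∈ wc t, w * w = 1 → g * w * g⁻¹ ∈ Q := by
    intro w hw hww
    apply StrongEmb.Frame.mem_of_two_element hH hQ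
    · apply TwoFusion.StronglyEmbeddedBasic.mem_of_commute hH hs hs2
      change g * w * g⁻¹ * s = s * (g * w * g⁻¹)
      rw [← hg]
      calc g * w * g⁻¹ * (g * t * g⁻¹) = g * (w * t) * g⁻¹ := by group
        _ = g * (t * w) * g⁻¹ := by rw [comm_of_mem hw]
        _ = _ := by group
    · have h1 : orderOf (g * w * g⁻¹) ∣ 2 ^ 1 := by
        apply orderOf_dvd_of_pow_eq_one
        rw [pow_one, pow_two]
        calc g * w * g⁻¹ * (g * w * g⁻¹) = g * (w * w) * g⁻¹ := by group
          _ = 1 := by rw [hww]; group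
      obtain ⟨n, -, hn⟩ := (Nat.dvd_prime_pow Nat.prime_two).1 h1
      exact ⟨n, hn⟩
  obtain ⟨a, b, ha, hb, hab, hab1⟩ := exists_pair
  have hsq : ∀ c : A5, c * c = 1 → (e.symm (1, c) : wc t).1 * (e.symm (1, c) : wc t).1 = 1 := by
    intro c hc
    have h1 : (e.symm (1, c)) * (e.symm (1, c)) = 1 := by
      rw [← map_mul]
      have : ((1, c) : K) * (1, c) = 1 := Prod.ext (one_mul 1) hc
      rw [this, map_one]
    exact congrArg Subtype.val h1
  have hx := key _ (e.symm (1, a)).2 (hsq a ha)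
  have hy := key _ (e.symm (1, b)).2 (hsq b hb)
  have hxy := Q.mul_mem hx hy
  have h1 : g * (e.symm (1, a) : wc t).1 * g⁻¹ * (g * (e.symm (1, b) : wc t).1 * g⁻¹) =
      g * (e.symm (1, a * b) : wc t).1 * g⁻¹ := by
    have : ((1, a * b) : K) = (1, a) * (1, b) := by simp
    rw [this, map_mul]
    change _ = g * ((e.symm (1, a) : wc t).1 * (e.symm (1, b) : wc t).1) * g⁻¹
    group
  rw [h1] at hxy
  set c : wc t := e.symm (1, a * b) with hc
  have hc3 : c ^ 3 = 1 := by
    rw [hc, ← map_pow]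
    have : ((1, a * b) : K) ^ 3 = 1 := by
      rw [pow_succ, pow_two]
      refine Prod.ext ?_ hab
      change (1 : Multiplicative (ZMod 2)) * 1 * 1 = 1
      rw [one_mul, one_mul]
    rw [this, map_one]
  have hc1 : c ≠ 1 := by
    intro h2
    rw [hc] at h2
    have h3 : ((1, a * b) : K) = 1 := by
      have := congrArg e h2
      rwa [MulEquiv.apply_symm_apply, map_one] at this
    exact hab1 (congrArg Prod.snd h3)
  obtain ⟨k, hk⟩ := hQ2 ⟨_, hxy⟩
  have h2 : (g * (c : G) * g⁻¹) ^ 2 ^ k = 1 := congrArg Subtype.val hk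
  rw [conj_pow, mul_inv_eq_one] at h2
  have h3 : (c : G) ^ 2 ^ k = 1 := by simpa using h2
  have h4 : orderOf (c : G) ∣ 2 ^ k := orderOf_dvd_of_pow_eq_one h3
  have h5 : orderOf (c : G) ∣ 3 := orderOf_dvd_of_pow_eq_one (congrArg Subtype.val hc3)
  have h6 : Nat.Coprime (2 ^ k) 3 := Nat.Coprime.pow_left _ (by norm_num)
  have h7 := Nat.dvd_gcd h4 h5
  rw [Nat.Coprime.gcd_eq_one h6, Nat.dvd_one, orderOf_eq_one_iff] at h7
  exact hc1 (Subtype.ext h7)

theorem eight_dvd (h : Hyp t S) : 8 ∣ Nat.card G := by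
  rw [← h.card_E]
  exact Subgroup.card_subgroup_dvd_card _

/-- the Sylow subgroup has order 8 if it is commutative -/
theorem card_S [IsSimpleGroup G] (h : Hyp t S) (hS : IsMulCommutative (S : Subgroup G)) :
    Nat.card (S : Subgroup G) = 8 := by
  have hp2 : Fact (Nat.Prime 2) := ⟨Nat.prime_two⟩
  have hES : Nat.card (E t S) ∣ Nat.card (S : Subgroup G) := Subgroup.card_dvd_of_le inf_le_left
  rw [h.card_E] at hES
  have fin : ¬ 16 ∣ Nat.card G → Nat.card (S : Subgroup G) = 8 := by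
    intro h16
    obtain ⟨k, hk⟩ := IsPGroup.iff_card.1 S.2
    have h1 : Nat.card (S : Subgroup G) ∣ Nat.card G := Subgroup.card_subgroup_dvd_card _
    rw [hk] at hES h1 ⊢
    have h2 : k < 4 := by
      by_contra hlt
      exact h16 ((pow_dvd_pow 2 (by omega : 4 ≤ k)).trans h1)
    have h3 : 2 ^ 3 ∣ 2 ^ k := by norm_num; exact hES
    have h4 : 3 ≤ k := (Nat.pow_dvd_pow_iff_le_right (by norm_num)).1 h3
    have : k = 3 := by omega
    rw [this]
    norm_num
  rcases Cfsg.Agent.S0506.result h.not_isMulCommutative S hS with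
    ⟨a, ha, F, i1, i2, hF, ⟨f⟩⟩ | ⟨F, i1, i2, hF, ⟨f⟩⟩ | ⟨-, m, hm, hc⟩ | ⟨-, hc⟩
  · exfalso
    have hch : CharP F 2 := charP_of_card_eq_prime_pow (by rw [hF])
    have h1 := ((TwoURows.se_borelTwo (F := F)).quot_center).equiv f.symm
    exact h.not_stronglyEmbedded _ (stronglyEmbedded_of_se h1)
  · exfalso
    have hodd : Odd (Fintype.card F) := by
      rw [Nat.odd_iff]
      omega
    have h1 := ClassicalGeometry.PSL2Basic.card_PSL2_odd (F := F) hodd
    have h2 := h.eight_dvd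
    rw [Nat.card_congr f.toEquiv] at h2
    obtain ⟨k, hk⟩ := h2
    rw [hk] at h1
    generalize Fintype.card F = q at hF hodd h1
    have hq : ∃ r, q = 8 * r + 3 ∨ q = 8 * r + 5 := ⟨q / 8, by omega⟩
    obtain ⟨r, hr | hr⟩ := hq
    · have h3 : q ^ 2 - 1 = 8 * (8 * r ^ 2 + 6 * r + 1) := by
        rw [hr]
        have : (8 * r + 3) ^ 2 = 8 * (8 * r ^ 2 + 6 * r + 1) + 1 := by ring
        omega
      rw [h3, hr] at h1
      have h4 : 2 * k = (8 * r + 3) * (8 * r ^ 2 + 6 * r + 1) := by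
        nlinarith
      have h5 : (8 * r + 3) * (8 * r ^ 2 + 6 * r + 1) = 2 * ((8 * r + 3) * (4 * r ^ 2 + 3 * r) + 4 * r + 1) + 1 := by ring
      omega
    · have h3 : q ^ 2 - 1 = 8 * (8 * r ^ 2 + 10 * r + 3) := by
        rw [hr]
        have : (8 * r + 5) ^ 2 = 8 * (8 * r ^ 2 + 10 * r + 3) + 1 := by ring
        omega
      rw [h3, hr] at h1
      have h4 : 2 * k = (8 * r + 5) * (8 * r ^ 2 + 10 * r + 3) := by
        nlinarith
      have h5 : (8 * r + 5) * (8 * r ^ 2 + 10 * r + 3) = 2 * ((8 * r + 5) * (4 * r ^ 2 + 5 * r + 1) + 4 * r + 2) + 1 := by ring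
      omega
  · apply fin
    rw [hc]
    intro h16
    have hq : ∃ r, 3 ^ (2 * m + 1) = 8 * r + 3 := by
      have h1 : 3 ^ (2 * m + 1) % 8 = 3 := by
        rw [pow_succ, pow_mul, Nat.mul_mod, Nat.pow_mod]
        norm_num
      exact ⟨3 ^ (2 * m + 1) / 8, by omega⟩
    obtain ⟨r, hr⟩ := hq
    rw [hr] at h16
    have h3 : (8 * r + 3) ^ 3 * ((8 * r + 3) ^ 3 + 1) * (8 * r + 3 - 1) =
        8 * ((8 * r + 3) ^ 3 * (128 * r ^ 3 + 144 * r ^ 2 + 54 * r + 7) * (4 * r + 1)) := by
      have : 8 * r + 3 - 1 = 2 * (4 * r + 1) := by omega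
      rw [this]
      ring
    rw [h3] at h16
    have h4 : 2 ∣ (8 * r + 3) ^ 3 * (128 * r ^ 3 + 144 * r ^ 2 + 54 * r + 7) * (4 * r + 1) := by
      have : 8 * 2 ∣ 8 * ((8 * r + 3) ^ 3 * (128 * r ^ 3 + 144 * r ^ 2 + 54 * r + 7) * (4 * r + 1)) := by
        norm_num; exact h16
      exact Nat.dvd_of_mul_dvd_mul_left (by norm_num) this
    have ho1 : Odd ((8 * r + 3) ^ 3) := Odd.pow ⟨4 * r + 1, by ring⟩
    have ho2 : Odd (128 * r ^ 3 + 144 * r ^ 2 + 54 * r + 7) := ⟨64 * r ^ 3 + 72 * r ^ 2 + 27 * r + 3, by ring⟩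
    have ho3 : Odd (4 * r + 1) := ⟨2 * r, by ring⟩
    have ho := (ho1.mul ho2).mul ho3
    rw [← even_iff_two_dvd, ← Nat.not_odd_iff_even] at h4
    exact h4 ho
  · apply fin
    rw [hc]
    norm_num

/-- **The simple case.** -/
theorem isoJ1_of_simple [IsSimpleGroup G] (h : Hyp t S) : Cfsg.Spor.IsoJ1 G := by
  have hp2 : Fact (Nat.Prime 2) := ⟨Nat.prime_two⟩
  have hEne : E t S ≠ ⊥ := by
    intro h1
    have := h.t_mem_E
    rw [h1, mem_bot] at this
    exact h.t_ne this
  have hEc : IsMulCommutative (E t S) := ⟨⟨fun a b => Subtype.ext (h.E_comm a.2 b.2)⟩⟩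
  rcases Cfsg.Agent.S1169.result S (E t S) hEne hEc h.closed with hS | ⟨H, hH⟩
  · have h8 := h.card_S hS
    have hES : E t S = (S : Subgroup G) := by
      apply Subgroup.eq_of_le_of_card_ge inf_le_left
      rw [h8]
      exact h.card_E.ge
    obtain ⟨e⟩ := h.iso
    have hs := simple_AW e
    refine StdL2.JOne.isoJ1_of (fun a b S n hS => Cfsg.Agent.S1740.result a b S n hS) S h8 ?_ h.ht ?_ (AW e)
      (card_AW e) ?_ ?_
    · intro x hx
      rw [← hES] at hx
      exact h.E_sq hx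
    · intro u hu
      have huu : u * u = 1 := by rw [← pow_two, ← hu, pow_orderOf_eq_one]
      obtain ⟨g, -, hg⟩ := SylowL.KeyClosed.exists_conj_mem S (M := ⊤) le_top (isPGroup_zpowers_of_sq huu) le_top
      have h1 := hg u (mem_zpowers u)
      rw [← hES] at h1
      have h2 : g * u * g⁻¹ ≠ 1 := by
        intro h3
        rw [mul_inv_eq_one] at h3
        have h4 : u = 1 := by simpa using h3
        rw [h4, orderOf_one] at hu
        omega
      exact isConj_iff.1 ((h.conj_of_mem h1 h2).trans (isConj_iff.2 ⟨g⁻¹, by group⟩))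
    · intro a ha
      exact comm_of_mem (mem_AW.1 ha).1
    · intro g hg a ha
      exact conj_mem_AW e hg ha
  · exact (h.not_stronglyEmbedded H hH).elim

end Hyp

end Cfsg.Agent.H318.JOne
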