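import Cfsg.Agent.CTwoTab.B
import Cfsg.Agent.H318.TwoComp

/-!
# Components of the centralizers of the involutions of the Baby Monster (helper318)

`comp_b` : `K` a component of `C_B(u)`, `u` an involution: `|K / Z(K)| = |²E₆(2)|` or `K ∈ Chev(2)`.
-/

set_option autoImplicit false
set_option maxRecDepth 100000

open Subgroup

namespace Cfsg.Agent.H318.CompB

open Cfsg Cfsg.Lie Cfsg.Agent.CTwoTab Cfsg.Agent.BabyComp Cfsg.Agent.BabyComp.Main

universe u

/-- the property of the components -/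
def Pb (K : Type u) [Group K] : Prop := Nat.card (K ⧸ center K) = 76532479683774853939200 ∨ IsChevSimple 2 K

theorem Pb.congr {K L : Type u} [Group K] [Group L] (e : K ≃* L) (h : Pb K) : Pb L := by
  rcases h with h | h
  · left
    rw [← Nat.card_congr (quoEquiv e).toEquiv, h]
  · exact Or.inr (isChevSimple_congr e h)

/-- **The components.** -/
theorem comp_b (u : Spor.BabyMonster) (hu : orderOf u = 2) (N : Subgroup Spor.BabyMonster)
    (hN : IsComponentOf N (centralizer ({u} : Set Spor.BabyMonster))) : Pb ↥N := by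
  refine CTwoTab.BInst.elim ?_
  intro K iF iT hK hF i1 i2 i3 i4 q y h π f₁ f₂ f₃ f₄ M₁ hq h10 DK Fc hz hcz hcd hL hc5 big hq5 hcard Bs hr
  obtain ⟨σ, hσ⟩ := exists_sigma hq h10 DK
  have H := data hq h10 DK big hσ
  have hna := EFacts.noncomm K hK
  have hcE := Cfsg.Agent.BM.HBFinal.card_E K hK
  refine BabyComp.NoSpec.comp_all hq h10 DK Fc (Subgroup.subtype_injective _) hr hcz hcd hL hc5 big
    (Cfsg.Agent.TwoESix.LeviG.rootFacts hK hF) (Cfsg.Agent.BabyU.KeyInst.extra hF)
    (Cfsg.Agent.TwoESix.RootsInst.roots K hF) Bs (Pr := fun K _ => Pb K) (fun e h => h.congr e) ?_ ?_ u hu N hN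
  · intro M hM
    obtain ⟨f, hf, hk, hcen⟩ := TwoA.exists_hom H hM
    have e := quoCenterEquiv hf (simple_center_eq_bot hna) hcen
    left
    rw [Nat.card_congr e.toEquiv, hcE]
  · intro u d huu hu1 hd hc hud M hM
    have hu2 : orderOf u = 2 := orderOf_eq_prime (by rw [pow_two, huu]) hu1
    obtain ⟨X₀, σ', H', x, L, hx, -, hs, hnaL, hLn, -, -, ⟨e⟩⟩ := CaseTwo.main (EFacts.charTwo K hK)
      (Bs.trans H.t_sq H.t_ne) (by
        intro d hd
        obtain ⟨g, rfl⟩ := isConj_iff.1 hd
        have h1 := H.comap (MulAut.conj g⁻¹)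
        have h2 : (MulAut.conj g⁻¹).symm (q (y 5)) = g * q (y 5) * g⁻¹ := by
          rw [MulEquiv.symm_apply_eq, MulAut.conj_apply]
          group
        rw [h2] at h1
        exact ⟨_, _, h1⟩) huu hu1 hd hc hud (CTwoTab.B.bal u hu2) hM
    right
    refine isChevSimple_congr e.symm ?_
    have hch : CharP K 2 := by
      have hp := Fact.mk Nat.prime_two
      exact charP_of_card_eq_prime_pow hF
    have hnaE : ¬ IsMulCommutative ↥(twistedE6 K 2) := by
      rintro ⟨⟨hcomm⟩⟩
      obtain ⟨a, b, hab⟩ := hna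
      exact hab (hcomm a b)
    have hLq : IsComponent L := ⟨hLn.isSubnormal, SignalizersComponents.IntrinsicDiag.quasisimple_of_simple hs hnaL⟩
    refine TwoComp.exc (K := ↥(twistedE6 K 2)) hnaE (Or.inr (Or.inl
      ⟨K, inferInstance, inferInstance, hch, 2, Nat.prime_two.isPrimePow, Or.inl ⟨hF, ⟨MulEquiv.refl _⟩⟩⟩)) ?_ ?_ hLq
    · have h3 := pow_orderOf_eq_one x
      rw [hx, pow_two] at h3
      exact h3
    · rintro rfl
      rw [orderOf_one] at hx
      omega

end Cfsg.Agent.H318.CompB
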