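import Mathlib

/-!
# The group `Z₂ × A₅` (helper318)
-/

set_option autoImplicit false

namespace Cfsg.Agent.H318.TwoFive

open Subgroup

/-- `A₅` -/
abbrev A5 := ↥(alternatingGroup (Fin 5))

/-- `Z₂ × A₅` -/
abbrev K := Multiplicative (ZMod 2) × A5

theorem card_A : Nat.card A5 = 60 := by
  rw [nat_card_alternatingGroup]
  simp [Nat.factorial]

theorem card_K : Nat.card K = 120 := by
  rw [Nat.card_prod, card_A, Nat.card_congr (Multiplicative.toAdd), Nat.card_zmod]

theorem orders : ∀ g : A5, g * g = 1 ∨ g * g * g = 1 ∨ g * g * g * g * g = 1 := by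
  decide +kernel

theorem conj_invol : ∀ a b : A5, a * a = 1 → a ≠ 1 → b * b = 1 → b ≠ 1 → ∃ c : A5, c * a * c⁻¹ = b := by
  decide +kernel

/-- the elements of a Klein four-group -/
theorem cent_sq : ∀ g : A5, g * g = 1 → g ≠ 1 → ∀ h : A5, h * g = g * h → h * h = 1 := by
  decide +kernel

theorem cent_trivial : ∀ g : A5, (∀ h : A5, h * g = g * h) → g = 1 := by
  decide +kernel

theorem z2_sq (z : Multiplicative (ZMod 2)) : z * z = 1 := by
  revert z; decide

theorem z2_cases (z : Multiplicative (ZMod 2)) : z = 1 ∨ z = Multiplicative.ofAdd 1 := by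
  revert z; decide

theorem sq_of_pow {g : A5} {k : ℕ} (h : g ^ 2 ^ k = 1) : g * g = 1 := by
  have hd : orderOf g ∣ 2 ^ k := orderOf_dvd_of_pow_eq_one h
  rcases orders g with h1 | h1 | h1
  · exact h1
  · have h3 : orderOf g ∣ 3 := orderOf_dvd_of_pow_eq_one (by rw [pow_succ, pow_two]; exact h1)
    have hc : Nat.Coprime (2 ^ k) 3 := Nat.Coprime.pow_left _ (by norm_num)
    have : orderOf g ∣ 1 := by rw [← hc]; exact Nat.dvd_gcd hd h3
    have h4 : orderOf g = 1 := Nat.dvd_one.1 this
    rw [orderOf_eq_one_iff] at h4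
    rw [h4, one_mul]
  · have h3 : orderOf g ∣ 5 := orderOf_dvd_of_pow_eq_one (by
      rw [pow_succ, pow_succ, pow_succ, pow_two]; exact h1)
    have hc : Nat.Coprime (2 ^ k) 5 := Nat.Coprime.pow_left _ (by norm_num)
    have : orderOf g ∣ 1 := by rw [← hc]; exact Nat.dvd_gcd hd h3
    have h4 : orderOf g = 1 := Nat.dvd_one.1 this
    rw [orderOf_eq_one_iff] at h4
    rw [h4, one_mul]

/-- the 2-elements of `Z₂ × A₅` have square one -/
theorem K_sq_of_pow {x : K} {k : ℕ} (h : x ^ 2 ^ k = 1) : x * x = 1 :=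
  Prod.ext (z2_sq _) (sq_of_pow (congrArg Prod.snd h))

/-- the central elements of `Z₂ × A₅` -/
theorem K_snd_of_central {x : K} (h : ∀ y : K, y * x = x * y) : x.2 = 1 :=
  cent_trivial _ fun a => congrArg Prod.snd (h (1, a))

theorem A5_comm : commutator A5 = ⊤ := by
  rcases IsSimpleGroup.eq_bot_or_eq_top_of_normal (commutator A5) inferInstance with h | h
  · exfalso
    have h1 : IsMulCommutative (⊤ : Subgroup A5) := by
      rw [← Subgroup.commutator_eq_bot_iff_le_centralizer.trans le_centralizer_iff_isMulCommutative]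
      exact h
    have h2 : ∀ a b : A5, a * b = b * a := fun a b =>
      congrArg Subtype.val (h1.is_comm.comm (⟨a, mem_top a⟩ : (⊤ : Subgroup A5)) ⟨b, mem_top b⟩)
    have h3 : ∀ a : A5, a = 1 := fun a => cent_trivial a fun b => h2 b a
    have : Nat.card A5 = 1 := by
      rw [Nat.card_eq_one_iff_unique]
      exact ⟨⟨fun a b => (h3 a).trans (h3 b).symm⟩, ⟨1⟩⟩
    rw [card_A] at this
    omega
  · exact h

/-- the commutator subgroup of `Z₂ × A₅` -/
theorem K_comm {x : K} : x ∈ commutator K ↔ x.1 = 1 := by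
  constructor
  · intro h
    have h1 : commutator K ≤ (MonoidHom.fst (Multiplicative (ZMod 2)) A5).ker :=
      Abelianization.commutator_subset_ker _
    exact h1 h
  · intro h
    have h1 : x.2 ∈ commutator A5 := by rw [A5_comm]; exact mem_top _
    have h2 : (commutator A5).map (MonoidHom.inr (Multiplicative (ZMod 2)) A5) ≤ commutator K := by
      rw [commutator_def, commutator_def, Subgroup.map_commutator]
      exact Subgroup.commutator_mono le_top le_top
    have h3 : x = MonoidHom.inr (Multiplicative (ZMod 2)) A5 x.2 := Prod.ext h rfl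
    rw [h3]
    exact h2 ⟨_, h1, rfl⟩

/-- a normal subgroup of odd order of `Z₂ × A₅` is trivial -/
theorem K_normal_odd (N : Subgroup K) (hN : N.Normal) (h : ∀ x ∈ N, x * x = 1 → x = 1) : N = ⊥ := by
  rw [eq_bot_iff]
  intro x hx
  rw [mem_bot]
  -- the subgroup `{a | (1, a) ∈ N}` of `A₅`
  let M : Subgroup A5 := N.comap (MonoidHom.inr (Multiplicative (ZMod 2)) A5)
  have hM : M.Normal := Subgroup.Normal.comap hN _
  have hMb : M = ⊥ := by
    rcases IsSimpleGroup.eq_bot_or_eq_top_of_normal M hM with h1 | h1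
    · exact h1
    · exfalso
      obtain ⟨g, hg⟩ := exists_prime_orderOf_dvd_card' (G := A5) 2 (by rw [card_A]; norm_num)
      have hg2 : g * g = 1 := by rw [← pow_two, ← hg, pow_orderOf_eq_one]
      have hgM : g ∈ M := by rw [h1]; exact mem_top _
      have h2 : MonoidHom.inr (Multiplicative (ZMod 2)) A5 g = 1 := by
        apply h _ hgM
        rw [← map_mul, hg2, map_one]
      have h3 : g = 1 := congrArg Prod.snd h2
      rw [h3, orderOf_one] at hg
      omega
  have hx2 : x.2 = 1 := by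
    apply cent_trivial
    intro a
    -- the commutator of `(1, a)` with `x` is in `M`
    have h1 : MonoidHom.inr (Multiplicative (ZMod 2)) A5 (a * x.2 * a⁻¹ * x.2⁻¹) ∈ N := by
      have h2 : ((1, a) : K) * x * ((1, a) : K)⁻¹ * x⁻¹ ∈ N :=
        N.mul_mem (hN.conj_mem x hx _) (N.inv_mem hx)
      have h3 : ((1, a) : K) * x * ((1, a) : K)⁻¹ * x⁻¹ =
          MonoidHom.inr (Multiplicative (ZMod 2)) A5 (a * x.2 * a⁻¹ * x.2⁻¹) := by
        refine Prod.ext ?_ ?_
        · simp
        · simp
      rw [h3] at h2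
      exact h2
    have h4 : a * x.2 * a⁻¹ * x.2⁻¹ ∈ M := h1
    rw [hMb, mem_bot] at h4
    rw [mul_inv_eq_one, mul_inv_eq_iff_eq_mul] at h4
    exact h4
  apply h x hx
  exact Prod.ext (z2_sq _) (by change x.2 * x.2 = 1; rw [hx2, one_mul])

end Cfsg.Agent.H318.TwoFive
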