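import Mathlib
import Cfsg.Prelude.Def_TwoFusion
import Cfsg.Agent.H318.TwoFive
import Cfsg.Agent.SylowL.KeyClosed
import Cfsg.Agent.TwoFusion.GoldControl

/-!
# A 2-central involution whose weak closure in its centralizer is `Z₂ × A₅` (helper318)

`E = ⟨t^G ∩ C(t)⟩ ∩ S` is elementary abelian of order 8, strongly closed in `S`, and all its involutions are
conjugate to `t`.
-/

set_option autoImplicit false
set_option linter.unusedSectionVars false

namespace Cfsg.Agent.H318.JOne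

open Subgroup TwoFive

variable {G : Type*} [Group G]

/-- the weak closure of `t` in its centralizer -/
def wc (t : G) : Subgroup G := closure {x : G | ∃ g : G, x = g * t * g⁻¹ ∧ x * t = t * x}

theorem t_mem (t : G) : t ∈ wc t := subset_closure ⟨1, by simp, rfl⟩

theorem comm_of_mem {t w : G} (hw : w ∈ wc t) : w * t = t * w := by
  have h1 : wc t ≤ centralizer ({t} : Set G) := by
    unfold wc
    rw [closure_le]
    rintro x ⟨g, -, hx⟩
    exact mem_centralizer_singleton_iff.2 hx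
  exact mem_centralizer_singleton_iff.1 (h1 hw)

theorem mem_of_conj {t x : G} (h : IsConj t x) (hx : x * t = t * x) : x ∈ wc t := by
  obtain ⟨g, hg⟩ := isConj_iff.1 h
  exact subset_closure ⟨g, hg.symm, hx⟩

theorem conj_mem {t g w : G} (hg : g * t = t * g) (hw : w ∈ wc t) : g * w * g⁻¹ ∈ wc t := by
  have h1 : (wc t).map (MulAut.conj g).toMonoidHom ≤ wc t := by
    unfold wc
    rw [MonoidHom.map_closure, closure_le]
    rintro _ ⟨x, ⟨k, hk, hx⟩, rfl⟩
    apply Subgroup.subset_closure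
    refine ⟨g * k, ?_, ?_⟩
    · change g * x * g⁻¹ = _
      rw [hk]
      group
    · change g * x * g⁻¹ * t = t * (g * x * g⁻¹)
      have h2 : g⁻¹ * t = t * g⁻¹ := by
        rw [inv_mul_eq_iff_eq_mul, ← mul_assoc, hg, mul_inv_cancel_right]
      calc g * x * g⁻¹ * t = g * x * (g⁻¹ * t) := by group
        _ = g * (x * t) * g⁻¹ := by rw [h2]; group
        _ = g * t * x * g⁻¹ := by rw [hx]; group
        _ = t * (g * x * g⁻¹) := by rw [hg]; group
  exact h1 ⟨w, hw, rfl⟩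

/-- conjugates of the weak closure -/
theorem conj_mem_wc (t g w : G) (hw : w ∈ wc t) : g * w * g⁻¹ ∈ wc (g * t * g⁻¹) := by
  have h1 : (wc t).map (MulAut.conj g).toMonoidHom ≤ wc (g * t * g⁻¹) := by
    unfold wc
    rw [MonoidHom.map_closure, closure_le]
    rintro _ ⟨x, ⟨k, hk, hx⟩, rfl⟩
    apply Subgroup.subset_closure
    refine ⟨g * k * g⁻¹, ?_, ?_⟩
    · change g * x * g⁻¹ = _
      rw [hk]
      group
    · change g * x * g⁻¹ * (g * t * g⁻¹) = (g * t * g⁻¹) * (g * x * g⁻¹)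
      calc g * x * g⁻¹ * (g * t * g⁻¹) = g * (x * t) * g⁻¹ := by group
        _ = g * (t * x) * g⁻¹ := by rw [hx]
        _ = _ := by group
  exact h1 ⟨w, hw, rfl⟩

/-- the hypothesis of S3239 -/
structure Hyp [Finite G] (t : G) (S : Sylow 2 G) : Prop where
  ht : orderOf t = 2
  htS : t ∈ (S : Subgroup G)
  htc : ∀ s ∈ (S : Subgroup G), s * t = t * s
  iso : Nonempty (wc t ≃* K)

variable [Finite G] {t : G} {S : Sylow 2 G}

namespace Hyp

theorem t_sq (h : Hyp t S) : t * t = 1 := by rw [← pow_two, ← h.ht, pow_orderOf_eq_one]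

theorem t_ne (h : Hyp t S) : t ≠ 1 := by
  intro h1
  have := h.ht
  rw [h1, orderOf_one] at this
  omega

theorem card_wc (h : Hyp t S) : Nat.card (wc t) = 120 := by
  obtain ⟨e⟩ := h.iso
  rw [Nat.card_congr e.toEquiv, card_K]

/-- the image of `t` -/
theorem e_t (h : Hyp t S) (e : wc t ≃* K) : e ⟨t, t_mem t⟩ = (Multiplicative.ofAdd 1, 1) := by
  have h2 : (e ⟨t, t_mem t⟩).2 = 1 := by
    apply K_snd_of_central
    intro y
    obtain ⟨w, rfl⟩ := e.surjective y
    rw [← map_mul, ← map_mul]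
    congr 1
    exact Subtype.ext (comm_of_mem w.2)
  rcases z2_cases (e ⟨t, t_mem t⟩).1 with h1 | h1
  · exfalso
    have h3 : e ⟨t, t_mem t⟩ = 1 := Prod.ext h1 h2
    rw [EmbeddingLike.map_eq_one_iff] at h3
    exact h.t_ne (congrArg Subtype.val h3)
  · exact Prod.ext h1 h2

/-- `E = S ∩ W` -/
def E (t : G) (S : Sylow 2 G) : Subgroup G := (S : Subgroup G) ⊓ wc t

theorem E_isPGroup : IsPGroup 2 (E t S) := S.2.to_le inf_le_left

theorem E_sq (h : Hyp t S) {x : G} (hx : x ∈ E t S) : x * x = 1 := by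
  obtain ⟨e⟩ := h.iso
  obtain ⟨k, hk⟩ := E_isPGroup (t := t) (S := S) ⟨x, hx⟩
  have h1 : x ^ 2 ^ k = 1 := congrArg Subtype.val hk
  have h2 : e ⟨x, hx.2⟩ * e ⟨x, hx.2⟩ = 1 := by
    apply K_sq_of_pow (k := k)
    rw [← map_pow]
    have : (⟨x, hx.2⟩ : wc t) ^ 2 ^ k = 1 := Subtype.ext h1
    rw [this, map_one]
  rw [← map_mul, EmbeddingLike.map_eq_one_iff] at h2
  exact congrArg Subtype.val h2

theorem E_comm (h : Hyp t S) {x y : G} (hx : x ∈ E t S) (hy : y ∈ E t S) : x * y = y * x := by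
  have h1 := h.E_sq hx
  have h2 := h.E_sq hy
  have h3 := h.E_sq ((E t S).mul_mem hx hy)
  have h4 : x⁻¹ = x := inv_eq_of_mul_eq_one_left h1
  have h5 : y⁻¹ = y := inv_eq_of_mul_eq_one_left h2
  have h6 : (x * y)⁻¹ = x * y := inv_eq_of_mul_eq_one_left h3
  rw [← h6, mul_inv_rev, h4, h5]

theorem S_le (h : Hyp t S) : (S : Subgroup G) ≤ centralizer ({t} : Set G) := fun s hs =>
  mem_centralizer_singleton_iff.2 (h.htc s hs)

theorem t_mem_E (h : Hyp t S) : t ∈ E t S := ⟨h.htS, t_mem t⟩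

/-- every 2-subgroup of `W` is conjugate under `C(t)` into `E` -/
theorem exists_conj_E (h : Hyp t S) {P : Subgroup G} (hP : IsPGroup 2 P) (hPW : P ≤ wc t) :
    ∃ m : G, m * t = t * m ∧ ∀ x ∈ P, m * x * m⁻¹ ∈ E t S := by
  obtain ⟨m, hm, h1⟩ := SylowL.KeyClosed.exists_conj_mem S h.S_le hP (fun x hx =>
    mem_centralizer_singleton_iff.2 (comm_of_mem (hPW hx)))
  have hm' := mem_centralizer_singleton_iff.1 hm
  exact ⟨m, hm', fun x hx => ⟨h1 x hx, conj_mem hm' (hPW hx)⟩⟩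

theorem card_E (h : Hyp t S) : Nat.card (E t S) = 8 := by
  have h2 : Fact (Nat.Prime 2) := ⟨Nat.prime_two⟩
  -- upper bound
  have h3 : Nat.card (E t S) ∣ 120 := by
    rw [← h.card_wc]
    exact Subgroup.card_dvd_of_le inf_le_right
  obtain ⟨k, hk⟩ := (IsPGroup.iff_card.1 (E_isPGroup (t := t) (S := S)))
  have h4 : k ≤ 3 := by
    by_contra hlt
    have h5 : 2 ^ 4 ∣ 2 ^ k := pow_dvd_pow 2 (by omega)
    rw [← hk] at h5
    have h6 := h5.trans h3
    norm_num at h6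
  -- lower bound
  obtain ⟨P, hP⟩ := Sylow.exists_subgroup_card_pow_prime (G := wc t) 2 (n := 3) (by
    rw [h.card_wc]; norm_num)
  have hPp : IsPGroup 2 (P.map (wc t).subtype) :=
    (IsPGroup.of_card hP).map _
  have hPc : Nat.card (P.map (wc t).subtype) = 8 := by
    rw [Subgroup.card_map_of_injective (wc t).subtype_injective, hP]
    norm_num
  obtain ⟨m, -, hm⟩ := h.exists_conj_E hPp (by
    rintro _ ⟨x, -, rfl⟩
    exact x.2)
  have h5 : 8 ≤ Nat.card (E t S) := by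
    have h7 : Nat.card ((P.map (wc t).subtype).map (MulAut.conj m).toMonoidHom) = 8 := by
      rw [Subgroup.card_map_of_injective (f := (MulAut.conj m).toMonoidHom) (MulAut.conj m).injective, hPc]
    rw [← h7]
    apply Nat.card_le_card_of_injective (Subgroup.inclusion (H := (P.map (wc t).subtype).map (MulAut.conj m).toMonoidHom)
      (K := E t S) ?_) (Subgroup.inclusion_injective _)
    rintro _ ⟨x, hx, rfl⟩
    exact hm x hx
  have h6 : 2 ^ k ≤ 2 ^ 3 := Nat.pow_le_pow_right (by norm_num) h4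
  rw [hk] at h5 ⊢
  have : (2:ℕ) ^ 3 = 8 := by norm_num
  omega

/-- the conjugates of `t` in `S` lie in `E` -/
theorem mem_E_of_conj (h : Hyp t S) {x : G} (hx : x ∈ (S : Subgroup G)) (hc : IsConj t x) : x ∈ E t S :=
  ⟨hx, mem_of_conj hc (h.htc x hx)⟩

/-- the involutions of `W` outside `⟨t⟩` with the same first component are conjugate in `W` -/
theorem conj_of_snd (_h : Hyp t S) (e : wc t ≃* K) {x y : G} (hx : x ∈ wc t) (hy : y ∈ wc t)
    (hx2 : x * x = 1) (hy2 : y * y = 1) (hx1 : (e ⟨x, hx⟩).2 ≠ 1) (hy1 : (e ⟨y, hy⟩).2 ≠ 1)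
    (hf : (e ⟨x, hx⟩).1 = (e ⟨y, hy⟩).1) : IsConj x y := by
  have h1 : (e ⟨x, hx⟩).2 * (e ⟨x, hx⟩).2 = 1 := by
    have : e ⟨x, hx⟩ * e ⟨x, hx⟩ = 1 := by
      rw [← map_mul, EmbeddingLike.map_eq_one_iff]
      exact Subtype.ext hx2
    exact congrArg Prod.snd this
  have h2 : (e ⟨y, hy⟩).2 * (e ⟨y, hy⟩).2 = 1 := by
    have : e ⟨y, hy⟩ * e ⟨y, hy⟩ = 1 := by
      rw [← map_mul, EmbeddingLike.map_eq_one_iff]
      exact Subtype.ext hy2
    exact congrArg Prod.snd this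
  obtain ⟨c, hc⟩ := conj_invol _ _ h1 hx1 h2 hy1
  obtain ⟨w, hw⟩ := e.surjective (1, c)
  rw [isConj_iff]
  refine ⟨w, ?_⟩
  have h3 : e (w * ⟨x, hx⟩ * w⁻¹) = e ⟨y, hy⟩ := by
    rw [map_mul, map_mul, map_inv, hw]
    refine Prod.ext ?_ hc
    rw [← hf]
    simp
  exact congrArg Subtype.val (e.injective h3)

/-- there is a conjugate of `t` in `E` different from `t` -/
theorem exists_ne (h : Hyp t S) : ∃ x ∈ E t S, x ≠ t ∧ IsConj t x := by
  by_contra hcon
  push Not at hcon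
  have h1 : wc t ≤ zpowers t := by
    conv_lhs => unfold wc
    rw [closure_le]
    rintro x ⟨g, hg, hx⟩
    have hxw : x ∈ wc t := mem_of_conj (isConj_iff.2 ⟨g, hg.symm⟩) hx
    have hxt : x ^ 2 = 1 := by
      rw [pow_two, hg]
      have := h.t_sq
      calc g * t * g⁻¹ * (g * t * g⁻¹) = g * (t * t) * g⁻¹ := by group
        _ = 1 := by rw [this]; group
    have hp : IsPGroup 2 (zpowers x) := by
      rw [IsPGroup.iff_card]
      have h2 : Nat.card (zpowers x) ∣ 2 ^ 1 := by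
        rw [Nat.card_zpowers]
        exact orderOf_dvd_of_pow_eq_one hxt
      obtain ⟨k, -, hk⟩ := (Nat.dvd_prime_pow Nat.prime_two).1 h2
      exact ⟨k, hk⟩
    obtain ⟨m, hm, hmx⟩ := h.exists_conj_E hp (by rwa [zpowers_le])
    have h3 := hmx x (mem_zpowers x)
    by_cases h4 : m * x * m⁻¹ = t
    · have h5 : x = t := by
        have : x = m⁻¹ * (m * x * m⁻¹) * m := by group
        rw [this, h4]
        rw [mul_assoc, ← hm, inv_mul_cancel_left]
      rw [h5]
      exact mem_zpowers t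
    · exfalso
      apply hcon _ h3 h4
      rw [isConj_iff]
      refine ⟨m * g, ?_⟩
      rw [hg]
      group
  have h2 : Nat.card (wc t) ≤ Nat.card (zpowers t) :=
    Nat.card_le_card_of_injective _ (Subgroup.inclusion_injective h1)
  rw [h.card_wc, Nat.card_zpowers, h.ht] at h2
  omega

/-- the conjugates of `t` in `S` -/
def D (t : G) (S : Sylow 2 G) : Set G := {x | x ∈ (S : Subgroup G) ∧ IsConj t x}

theorem closure_D_le (h : Hyp t S) : closure (D t S) ≤ E t S := by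
  rw [closure_le]
  rintro x ⟨hx, hc⟩
  exact h.mem_E_of_conj hx hc

theorem snd_ne (h : Hyp t S) (e : wc t ≃* K) {x : G} (hx : x ∈ wc t) (h1 : x ≠ 1) (h2 : x ≠ t) :
    (e ⟨x, hx⟩).2 ≠ 1 := by
  intro h3
  rcases z2_cases (e ⟨x, hx⟩).1 with h4 | h4
  · have : e ⟨x, hx⟩ = 1 := Prod.ext h4 h3
    rw [EmbeddingLike.map_eq_one_iff] at this
    exact h1 (congrArg Subtype.val this)
  · have : e ⟨x, hx⟩ = e ⟨t, t_mem t⟩ := by
      rw [h.e_t e]
      exact Prod.ext h4 h3
    exact h2 (congrArg Subtype.val (e.injective this))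

/-- `x` or `t x` is conjugate to `t`, for `x ∈ E` outside `⟨t⟩` -/
theorem conj_or (h : Hyp t S) {x : G} (hx : x ∈ E t S) (h1 : x ≠ 1) (h2 : x ≠ t) :
    IsConj t x ∨ IsConj t (t * x) := by
  obtain ⟨e⟩ := h.iso
  obtain ⟨y, hy, hyt, hc⟩ := h.exists_ne
  have hy1 : y ≠ 1 := by
    rintro rfl
    obtain ⟨g, hg⟩ := isConj_iff.1 hc
    apply h.t_ne
    rw [mul_inv_eq_one] at hg
    simpa using hg
  have h3 := h.snd_ne e hx.2 h1 h2
  have h4 := h.snd_ne e hy.2 hy1 hyt
  have htx : t * x ∈ E t S := (E t S).mul_mem h.t_mem_E hx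
  have h5 : e ⟨t * x, htx.2⟩ = (Multiplicative.ofAdd 1, 1) * e ⟨x, hx.2⟩ := by
    rw [← h.e_t e, ← map_mul]
    rfl
  have h6 : (e ⟨t * x, htx.2⟩).2 = (e ⟨x, hx.2⟩).2 := by
    rw [h5]
    simp
  have h7 : (e ⟨t * x, htx.2⟩).1 = Multiplicative.ofAdd 1 * (e ⟨x, hx.2⟩).1 := by
    rw [h5]
    rfl
  have h8 : (e ⟨y, hy.2⟩).1 = (e ⟨x, hx.2⟩).1 ∨ (e ⟨y, hy.2⟩).1 = (e ⟨t * x, htx.2⟩).1 := by
    rw [h7]
    generalize (e ⟨y, hy.2⟩).1 = a
    generalize (e ⟨x, hx.2⟩).1 = b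
    revert a b
    decide
  rcases h8 with h8 | h8
  · left
    exact hc.trans (h.conj_of_snd e hy.2 hx.2 (h.E_sq hy) (h.E_sq hx) h4 h3 h8)
  · right
    exact hc.trans (h.conj_of_snd e hy.2 htx.2 (h.E_sq hy) (h.E_sq htx) h4 (by rw [h6]; exact h3) h8)

theorem E_le_closure (h : Hyp t S) : E t S ≤ closure (D t S) := by
  have htD : t ∈ closure (D t S) := Subgroup.subset_closure ⟨h.htS, IsConj.refl t⟩
  intro x hx
  by_cases h1 : x = 1
  · rw [h1]; exact one_mem _
  by_cases h2 : x = t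
  · rw [h2]; exact htD
  rcases h.conj_or hx h1 h2 with h3 | h3
  · exact Subgroup.subset_closure ⟨hx.1, h3⟩
  · have h4 : t * x ∈ closure (D t S) :=
      Subgroup.subset_closure ⟨(S : Subgroup G).mul_mem h.htS hx.1, h3⟩
    have h5 := (closure (D t S)).mul_mem htD h4
    rwa [← mul_assoc, h.t_sq, one_mul] at h5

theorem closure_D (h : Hyp t S) : closure (D t S) = E t S := le_antisymm h.closure_D_le h.E_le_closure

/-- **`E` is strongly closed in `S`.** -/
theorem closed (h : Hyp t S) : Cfsg.IsStronglyClosed (E t S) (S : Subgroup G) := by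
  have h2 : Fact (Nat.Prime 2) := ⟨Nat.prime_two⟩
  have key := SylowL.KeyClosed.main S (D := D t S) (fun d hd => hd.1) (fun d hd g hg => ⟨hg, hd.2.trans
    (isConj_iff.2 ⟨g, rfl⟩)⟩) (by
      rw [h.closure_D]
      intro a ha b hb
      exact h.E_comm ha hb) (z := t) ⟨h.htS, IsConj.refl t⟩ h.htc (by
      rw [h.closure_D]
      intro a ha g hg hgS
      exact ⟨hgS, conj_mem hg ha.2⟩)
  rwa [h.closure_D] at key

/-- the number of conjugates of `t` in `S` is odd -/
theorem odd_card_D (h : Hyp t S) : Odd (Nat.card (D t S)) := by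
  have h2 : Fact (Nat.Prime 2) := ⟨Nat.prime_two⟩
  set N := normalizer (E t S : Set G) with hN
  have hSN : (S : Subgroup G) ≤ N := TwoFusion.GoldControl.le_normalizer_of_sc h.closed
  have hctl : ∀ x ∈ D t S, ∃ n ∈ N, n * t * n⁻¹ = x := by
    rintro x ⟨hx, hc⟩
    obtain ⟨g, hg⟩ := isConj_iff.1 hc
    obtain ⟨n, hn, h3⟩ := TwoFusion.GoldControl.control_elem S h.closed
      (fun a ha b hb => h.E_comm ha hb) h.htS (g := g) (by rw [hg]; exact hx)
    exact ⟨n, hn, by rw [← h3, hg]⟩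
  -- the stabilizer
  have hle : N ⊓ centralizer ({t} : Set G) ≤ N := inf_le_left
  have hcard : Nat.card (D t S) = (N ⊓ centralizer ({t} : Set G)).relIndex N := by
    rw [Subgroup.relIndex, Subgroup.index]
    symm
    apply Nat.card_congr
    refine Equiv.ofBijective (Quotient.lift (fun n : N => (⟨(n : G) * t * (n : G)⁻¹, ?_, ?_⟩ : D t S)) ?_) ⟨?_, ?_⟩
    · have h3 : (n : G) * t * (n : G)⁻¹ ∈ E t S := (mem_normalizer_iff.1 n.2 t).1 h.t_mem_E
      exact h3.1
    · exact isConj_iff.2 ⟨n, rfl⟩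
    · intro a b hab
      have h3 : (a⁻¹ * b : N) ∈ (N ⊓ centralizer ({t} : Set G)).subgroupOf N :=
        QuotientGroup.leftRel_apply.1 hab
      have h4 : ((a : G)⁻¹ * b) * t = t * ((a : G)⁻¹ * b) := mem_centralizer_singleton_iff.1 (mem_subgroupOf.1 h3).2
      apply Subtype.ext
      change (a : G) * t * (a : G)⁻¹ = (b : G) * t * (b : G)⁻¹
      calc (a : G) * t * (a : G)⁻¹ = a * (t * ((a : G)⁻¹ * b)) * (b : G)⁻¹ := by group
        _ = _ := by rw [← h4]; group
    · rintro ⟨a⟩ ⟨b⟩ hab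
      have h4 : (a : G) * t * (a : G)⁻¹ = (b : G) * t * (b : G)⁻¹ := congrArg Subtype.val hab
      apply Quotient.sound
      refine QuotientGroup.leftRel_apply.2 (mem_subgroupOf.2 ⟨(a⁻¹ * b : N).2, mem_centralizer_singleton_iff.2 ?_⟩)
      change ((a : G)⁻¹ * b) * t = t * ((a : G)⁻¹ * b)
      calc ((a : G)⁻¹ * b) * t = (a : G)⁻¹ * ((b : G) * t * (b : G)⁻¹) * b := by group
        _ = _ := by rw [← h4]; group
    · rintro ⟨x, hx⟩
      obtain ⟨n, hn, h3⟩ := hctl x hx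
      exact ⟨Quotient.mk _ ⟨n, hn⟩, Subtype.ext h3⟩
  rw [hcard]
  have hle' : (S : Subgroup G) ≤ N ⊓ centralizer ({t} : Set G) := le_inf hSN h.S_le
  have h5 : ¬ 2 ∣ (S : Subgroup G).index := S.not_dvd_index
  have h6 : (N ⊓ centralizer ({t} : Set G)).relIndex N ∣ (S : Subgroup G).index :=
    ((Subgroup.relIndex_dvd_index_of_le hle).trans (Subgroup.index_dvd_of_le hle'))
  rw [← Nat.not_even_iff_odd, even_iff_two_dvd]
  exact fun h7 => h5 (h7.trans h6)

theorem not_conj_one (h : Hyp t S) : ¬ IsConj t 1 := by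
  intro hc
  obtain ⟨g, hg⟩ := isConj_iff.1 hc
  apply h.t_ne
  rw [mul_inv_eq_one] at hg
  simpa using hg

/-- **All involutions of `E` are conjugate to `t`.** -/
theorem conj_of_mem (h : Hyp t S) {x : G} (hx : x ∈ E t S) (hx1 : x ≠ 1) : IsConj t x := by
  classical
  by_contra hcon
  obtain ⟨e⟩ := h.iso
  have hxt : x ≠ t := by
    rintro rfl
    exact hcon (IsConj.refl _)
  have htx : t * x ∈ E t S := (E t S).mul_mem h.t_mem_E hx
  have htc : IsConj t (t * x) := (h.conj_or hx hx1 hxt).resolve_left hcon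
  have hfst : ∀ y (hy : y ∈ E t S), (e ⟨t * y, ((E t S).mul_mem h.t_mem_E hy).2⟩).1 =
      Multiplicative.ofAdd 1 * (e ⟨y, hy.2⟩).1 := by
    intro y hy
    have h5 : e ⟨t * y, ((E t S).mul_mem h.t_mem_E hy).2⟩ = (Multiplicative.ofAdd 1, 1) * e ⟨y, hy.2⟩ := by
      rw [← h.e_t e, ← map_mul]
      rfl
    rw [h5]
    rfl
  have hsnd : ∀ y (hy : y ∈ E t S), (e ⟨t * y, ((E t S).mul_mem h.t_mem_E hy).2⟩).2 =
      (e ⟨y, hy.2⟩).2 := by
    intro y hy
    have h5 : e ⟨t * y, ((E t S).mul_mem h.t_mem_E hy).2⟩ = (Multiplicative.ofAdd 1, 1) * e ⟨y, hy.2⟩ := by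
      rw [← h.e_t e, ← map_mul]
      rfl
    rw [h5]
    exact one_mul _
  have hx2 := h.snd_ne e hx.2 hx1 hxt
  -- the translation by `t` exchanges conjugates and non-conjugates
  have key : ∀ y ∈ E t S, (IsConj t y ↔ ¬ IsConj t (t * y)) := by
    intro y hy
    by_cases hy1 : y = 1
    · subst hy1
      rw [mul_one]
      exact ⟨fun h1 => (h.not_conj_one h1).elim, fun h1 => (h1 (IsConj.refl t)).elim⟩
    by_cases hyt : y = t
    · subst hyt
      rw [h.t_sq]
      exact ⟨fun _ => h.not_conj_one, fun _ => IsConj.refl _⟩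
    have hy2 := h.snd_ne e hy.2 hy1 hyt
    have hty : t * y ∈ E t S := (E t S).mul_mem h.t_mem_E hy
    have hcases : (e ⟨y, hy.2⟩).1 = (e ⟨x, hx.2⟩).1 ∨
        (e ⟨y, hy.2⟩).1 = Multiplicative.ofAdd 1 * (e ⟨x, hx.2⟩).1 := by
      generalize (e ⟨y, hy.2⟩).1 = a
      generalize (e ⟨x, hx.2⟩).1 = b
      revert a b
      decide
    have hinv : ∀ a : Multiplicative (ZMod 2), Multiplicative.ofAdd 1 * (Multiplicative.ofAdd 1 * a) = a := by
      decide
    rcases hcases with h1 | h1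
    · -- `y ~ x`, `t y ~ t x`
      have h3 : IsConj y x := h.conj_of_snd e hy.2 hx.2 (h.E_sq hy) (h.E_sq hx) hy2 hx2 h1
      have h4 : IsConj (t * x) (t * y) := h.conj_of_snd e htx.2 hty.2 (h.E_sq htx) (h.E_sq hty)
        (by rw [hsnd x hx]; exact hx2) (by rw [hsnd y hy]; exact hy2) (by rw [hfst x hx, hfst y hy, h1])
      exact ⟨fun h5 => (hcon (h5.trans h3)).elim, fun h5 => (h5 (htc.trans h4)).elim⟩
    · have h3 : IsConj (t * x) y := h.conj_of_snd e htx.2 hy.2 (h.E_sq htx) (h.E_sq hy)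
        (by rw [hsnd x hx]; exact hx2) hy2 (by rw [hfst x hx, h1])
      have h4 : IsConj (t * y) x := h.conj_of_snd e hty.2 hx.2 (h.E_sq hty) (h.E_sq hx)
        (by rw [hsnd y hy]; exact hy2) hx2 (by rw [hfst y hy, h1, hinv])
      exact ⟨fun _ h5 => hcon (h5.trans h4), fun _ => htc.trans h3⟩
  -- count
  let P : E t S → Prop := fun y => IsConj t (y : G)
  have h1 : Nat.card {y // P y} = Nat.card {y // ¬ P y} := by
    apply Nat.card_congr
    refine ⟨fun y => ⟨⟨t * y.1.1, (E t S).mul_mem h.t_mem_E y.1.2⟩, (key _ y.1.2).1 y.2⟩,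
      fun y => ⟨⟨t * y.1.1, (E t S).mul_mem h.t_mem_E y.1.2⟩, ?_⟩, ?_, ?_⟩
    · by_contra h2
      exact y.2 ((key _ y.1.2).2 h2)
    · intro y
      apply Subtype.ext
      apply Subtype.ext
      change t * (t * (y.1.1)) = y.1.1
      rw [← mul_assoc, h.t_sq, one_mul]
    · intro y
      apply Subtype.ext
      apply Subtype.ext
      change t * (t * (y.1.1)) = y.1.1
      rw [← mul_assoc, h.t_sq, one_mul]
  have h2 : Nat.card {y // P y} + Nat.card {y // ¬ P y} = 8 := by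
    rw [← h.card_E, ← Nat.card_sum]
    exact Nat.card_congr (Equiv.sumCompl P)
  have h3 : Nat.card (D t S) = Nat.card {y // P y} := by
    apply Nat.card_congr
    refine ⟨fun y => ⟨⟨y.1, h.mem_E_of_conj y.2.1 y.2.2⟩, y.2.2⟩, fun y => ⟨y.1.1, y.1.2.1, y.2⟩,
      fun _ => rfl, fun _ => rfl⟩
  have h4 := h.odd_card_D
  rw [h3] at h4
  have h5 : Nat.card {y // P y} = 4 := by omega
  rw [h5] at h4
  exact absurd h4 (by decide)

end Hyp

end Cfsg.Agent.H318.JOne
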