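import Cfsg.Agent.H318.JOneA
import Cfsg.Agent.S1250
import Cfsg.Agent.S1251
import Cfsg.Agent.Lib.Cores
import Cfsg.Agent.Lib.KleinGen
import Cfsg.Agent.Lib.CoprimeStab

/-!
# Weak closure `Z₂ × A₅`: normal subgroups not containing `t` are centralised by `⟨t^G⟩` (helper318)
-/

set_option autoImplicit false
set_option linter.unusedSectionVars false

namespace Cfsg.Agent.H318.JOne

open Subgroup TwoFive
open scoped commutatorElement

variable {G : Type*} [Group G] [Finite G] {t : G} {S : Sylow 2 G}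

theorem not_mem_of_conj {M : Subgroup G} (hM : M.Normal) (htM : t ∉ M) {x : G} (h : IsConj t x) : x ∉ M := by
  intro hx
  obtain ⟨g, rfl⟩ := isConj_iff.1 h
  apply htM
  have := hM.conj_mem _ hx g⁻¹
  simpa [mul_assoc] using this

theorem isPGroup_zpowers_of_sq {x : G} (hx : x * x = 1) : IsPGroup 2 (zpowers x) := by
  rw [IsPGroup.iff_card]
  have h2 : Nat.card (zpowers x) ∣ 2 ^ 1 := by
    rw [Nat.card_zpowers]
    exact orderOf_dvd_of_pow_eq_one (by rw [pow_one, pow_two]; exact hx)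
  obtain ⟨k, -, hk⟩ := (Nat.dvd_prime_pow Nat.prime_two).1 h2
  exact ⟨k, hk⟩

namespace Hyp

variable {M : Subgroup G}

theorem E_inf (h : Hyp t S) (hM : M.Normal) (htM : t ∉ M) : E t S ⊓ M = ⊥ := by
  rw [eq_bot_iff]
  rintro x ⟨hx, hxM⟩
  rw [mem_bot]
  by_contra hx1
  exact not_mem_of_conj hM htM (h.conj_of_mem hx hx1) hxM

theorem wc_inf (h : Hyp t S) (hM : M.Normal) (htM : t ∉ M) : wc t ⊓ M = ⊥ := by
  obtain ⟨e⟩ := h.iso
  have hN : (M.subgroupOf (wc t)).Normal := hM.comap _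
  have h1 : ((M.subgroupOf (wc t)).map e.toMonoidHom) = ⊥ := by
    apply K_normal_odd _ (hN.map _ e.surjective)
    rintro _ ⟨x, hx, rfl⟩ hxx
    have hxx' : x * x = 1 := by
      have : e (x * x) = 1 := by rw [map_mul]; exact hxx
      rwa [EmbeddingLike.map_eq_one_iff] at this
    by_contra hx1
    have hx1' : x ≠ 1 := by
      rintro rfl
      exact hx1 (map_one e)
    obtain ⟨m, -, hm⟩ := h.exists_conj_E (P := zpowers (x : G))
      (isPGroup_zpowers_of_sq (congrArg Subtype.val hxx')) (by rw [zpowers_le]; exact x.2)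
    have h2 := hm _ (mem_zpowers (x : G))
    have h3 : m * (x : G) * m⁻¹ ∈ E t S ⊓ M := ⟨h2, hM.conj_mem _ (mem_subgroupOf.1 hx) m⟩
    rw [h.E_inf hM htM, mem_bot, mul_inv_eq_one] at h3
    apply hx1'
    apply Subtype.ext
    simpa using h3
  rw [Subgroup.map_eq_bot_iff_of_injective _ e.injective] at h1
  rw [eq_bot_iff]
  rintro x ⟨hx, hxM⟩
  have h2 : (⟨x, hx⟩ : wc t) ∈ M.subgroupOf (wc t) := mem_subgroupOf.2 hxM
  rw [h1, mem_bot] at h2
  exact congrArg Subtype.val h2

theorem comm_wc (h : Hyp t S) (hM : M.Normal) (htM : t ∉ M) {c : G} (hcM : c ∈ M) (hc : c * t = t * c)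
    {w : G} (hw : w ∈ wc t) : c * w = w * c := by
  have h1 : c * w * c⁻¹ * w⁻¹ ∈ wc t ⊓ M := by
    refine ⟨(wc t).mul_mem (conj_mem hc hw) ((wc t).inv_mem hw), ?_⟩
    have : c * w * c⁻¹ * w⁻¹ = c * (w * c⁻¹ * w⁻¹) := by group
    rw [this]
    exact M.mul_mem hcM (hM.conj_mem _ (M.inv_mem hcM) w)
  rw [h.wc_inf hM htM, mem_bot, mul_inv_eq_one, mul_inv_eq_iff_eq_mul] at h1
  exact h1

theorem comm_E (h : Hyp t S) (hM : M.Normal) (htM : t ∉ M) {c : G} (hcM : c ∈ M) {e : G} (he : e ∈ E t S)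
    (he1 : e ≠ 1) (hc : c * e = e * c) {f : G} (hf : f ∈ E t S) : c * f = f * c := by
  obtain ⟨g, hg⟩ := isConj_iff.1 (h.conj_of_mem he he1)
  by_cases hf1 : f = 1
  · rw [hf1, mul_one, one_mul]
  have hfe := h.E_comm hf he
  have hft : g⁻¹ * f * g ∈ wc t := by
    apply mem_of_conj
    · refine (h.conj_of_mem hf hf1).trans (isConj_iff.2 ⟨g⁻¹, by group⟩)
    · rw [← hg] at hfe
      calc g⁻¹ * f * g * t = g⁻¹ * (f * (g * t * g⁻¹)) * g := by group
        _ = _ := by rw [hfe]; group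
  have hct : g⁻¹ * c * g * t = t * (g⁻¹ * c * g) := by
    rw [← hg] at hc
    calc g⁻¹ * c * g * t = g⁻¹ * (c * (g * t * g⁻¹)) * g := by group
      _ = _ := by rw [hc]; group
  have hcM' : g⁻¹ * c * g ∈ M := by
    have := hM.conj_mem c hcM g⁻¹
    rwa [inv_inv] at this
  have h1 := h.comm_wc hM htM hcM' hct hft
  calc c * f = g * (g⁻¹ * c * g * (g⁻¹ * f * g)) * g⁻¹ := by group
    _ = _ := by rw [h1]; group

theorem E_le_centralizer_odd (h : Hyp t S) (hM : M.Normal) (hodd : Odd (Nat.card M)) :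
    E t S ≤ centralizer (M : Set G) := by
  have htM : t ∉ M := by
    intro htM
    have h1 : orderOf t ∣ Nat.card M := by
      rw [← Subgroup.orderOf_mk t htM]
      exact orderOf_dvd_natCard _
    rw [h.ht, ← even_iff_two_dvd, ← Nat.not_odd_iff_even] at h1
    exact h1 hodd
  obtain ⟨y, hy, hyt, hyc⟩ := h.exists_ne
  have hy1 : y ≠ 1 := by
    rintro rfl
    exact h.not_conj_one hyc
  have hcc : ∀ x ∈ E t S, x ≠ 1 → M ⊓ centralizer {x} ≤ centralizer (E t S : Set G) := by
    rintro x hx hx1 c ⟨hcM, hc⟩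
    rw [mem_centralizer_iff]
    intro f hf
    exact (h.comm_E hM htM hcM hx hx1 (mem_centralizer_singleton_iff.1 hc) hf).symm
  have hne : t * y ≠ 1 := by
    intro h1
    apply hyt
    have h2 := h.t_sq
    rw [← h1] at h2
    exact (mul_left_cancel h2).symm
  have h1 : M ≤ centralizer (E t S : Set G) :=
    Lib.KleinGen.le_of_klein M _ hodd t y h.t_sq (h.E_sq hy) (h.E_comm h.t_mem_E hy)
      (fun m hm => hM.conj_mem m hm t) (fun m hm => hM.conj_mem m hm y)
      (hcc t h.t_mem_E h.t_ne) (hcc y hy hy1) (hcc _ ((E t S).mul_mem h.t_mem_E hy) hne)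
  intro x hx
  rw [mem_centralizer_iff]
  intro m hm
  exact ((mem_centralizer_iff.1 (h1 hm)) x hx).symm

/-- **`E` centralises the normal subgroups not containing `t`.** -/
theorem E_le_centralizer (h : Hyp t S) (hM : M.Normal) (htM : t ∉ M) :
    E t S ≤ centralizer (M : Set G) := by
  have h2 : Fact (Nat.Prime 2) := ⟨Nat.prime_two⟩
  set O := Cfsg.oddCore G with hO
  have hOn : O.Normal := Lib.Cores.pPrimeCore_normal 2
  have hOodd : Odd (Nat.card O) := by
    have := Lib.Cores.pPrimeCore_coprime (G := G) 2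
    exact Nat.coprime_two_right.1 this
  have hEO := h.E_le_centralizer_odd hOn hOodd
  -- `t` is not in `M O`
  have htMO : t ∉ M ⊔ O := by
    intro hmem
    rw [← SetLike.mem_coe, Subgroup.mul_normal M O] at hmem
    obtain ⟨m, hm, o, ho, hmo⟩ := Set.mem_mul.1 hmem
    obtain ⟨k, hk⟩ := hOodd
    have h3 : (QuotientGroup.mk' M) t = QuotientGroup.mk' M o := by
      rw [← hmo, map_mul, (QuotientGroup.eq_one_iff m).2 hm |> (fun h => (h : QuotientGroup.mk' M m = 1)), one_mul]
    have h4 : (QuotientGroup.mk' M o) ^ Nat.card O = 1 := by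
      have h5 : o ^ Nat.card O = 1 := congrArg Subtype.val (pow_card_eq_one' (x := (⟨o, ho⟩ : O)))
      rw [← map_pow, h5, map_one]
    rw [← h3, hk, pow_succ, pow_mul, ← map_pow, pow_two, h.t_sq, map_one, one_pow, one_mul] at h4
    exact htM ((QuotientGroup.eq_one_iff t).1 h4)
  -- the quotient by `O`
  let π := QuotientGroup.mk' O
  have hπ : Function.Surjective π := QuotientGroup.mk'_surjective O
  let S' : Sylow 2 (G ⧸ O) := S.mapSurjective hπ
  have hS' : (S' : Subgroup (G ⧸ O)) = (S : Subgroup G).map π := rfl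
  have hMn : (M.map π).Normal := hM.map _ hπ
  have hdisj : (E t S).map π ⊓ M.map π = ⊥ := by
    rw [eq_bot_iff]
    rintro _ ⟨⟨x, hx, rfl⟩, ⟨m, hm, hmx⟩⟩
    rw [mem_bot]
    have h3 : x ∈ M ⊔ O := by
      have h4 : m⁻¹ * x ∈ O := by
        rw [← QuotientGroup.eq_one_iff]
        have : π (m⁻¹ * x) = 1 := by rw [map_mul, map_inv, hmx, inv_mul_cancel]
        exact this
      have := mul_mem (le_sup_left (b := O) hm : m ∈ M ⊔ O) (le_sup_right (a := M) h4)
      rwa [mul_inv_cancel_left] at this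
    by_cases hx1 : x = 1
    · rw [hx1, map_one]
    · exact (not_mem_of_conj (M := M ⊔ O) (Subgroup.sup_normal M O) htMO (h.conj_of_mem hx hx1) h3).elim
  have hcore : Cfsg.oddCore (M.map π) = ⊥ := by
    have h3 := Lib.Cores.map_subtype_pPrimeCore 2 hMn
    have h4 : Cfsg.pPrimeCore 2 (G ⧸ O) = ⊥ := Lib.Cores.pPrimeCore_quotient_pPrimeCore 2
    rw [h4, inf_bot_eq, Subgroup.map_eq_bot_iff_of_injective _ (Subgroup.subtype_injective _)] at h3
    exact h3
  have h5 := Cfsg.Agent.S1251.result S' ((E t S).map π) (Cfsg.Agent.S1250.result S (E t S) h.closed O)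
    (M.map π) (by
      rw [Subgroup.normalizer_eq_top_iff.2 hMn]
      exact le_top) hcore hdisj
  -- `[M, E] ≤ O` and `E` centralises `O`
  intro x hx
  rw [mem_centralizer_iff]
  intro m hm
  have hcomm : ⁅m, x⁆ ∈ O := by
    rw [← QuotientGroup.eq_one_iff]
    have h6 : π x ∈ centralizer ((M.map π : Subgroup (G ⧸ O)) : Set (G ⧸ O)) := h5 ⟨x, hx, rfl⟩
    have h7 : π m * π x = π x * π m := (mem_centralizer_iff.1 h6) _ ⟨m, hm, rfl⟩
    have h8 : π ⁅m, x⁆ = 1 := by
      rw [map_commutatorElement, commutatorElement_eq_one_iff_mul_comm]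
      exact h7
    exact h8
  have hxo : (orderOf x).Coprime (Nat.card O) := by
    have h6 : orderOf x ∣ 2 := orderOf_dvd_of_pow_eq_one (by rw [pow_two]; exact h.E_sq hx)
    exact Nat.Coprime.coprime_dvd_left h6 (Nat.coprime_two_left.2 hOodd)
  exact Lib.CoprimeStab.commute_of_commutator_commute hxo hcomm
    ((mem_centralizer_iff.1 (hEO hx)) _ hcomm)

/-- the normal closure of `t` -/
theorem normalClosure_le (h : Hyp t S) (hM : M.Normal) (htM : t ∉ M) :
    normalClosure ({t} : Set G) ≤ centralizer (M : Set G) := by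
  have : (centralizer (M : Set G)).Normal := inferInstance
  apply Subgroup.normalClosure_le_normal
  rw [Set.singleton_subset_iff]
  exact h.E_le_centralizer hM htM h.t_mem_E

/-! ### conjugates of `t` lie in `W`-like subgroups -/

/-- two conjugates of `t` lying in a common 2-subgroup commute -/
theorem comm_of_isPGroup (h : Hyp t S) {P : Subgroup G} (hP : IsPGroup 2 P) {x y : G} (hx : x ∈ P) (hy : y ∈ P)
    (hxc : IsConj t x) (hyc : IsConj t y) : ∃ g : G, g * x * g⁻¹ ∈ E t S ∧ g * y * g⁻¹ ∈ E t S ∧ x * y = y * x := by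
  have h2 : Fact (Nat.Prime 2) := ⟨Nat.prime_two⟩
  obtain ⟨g, -, hg⟩ := SylowL.KeyClosed.exists_conj_mem S (M := ⊤) le_top hP le_top
  have h3 : g * x * g⁻¹ ∈ E t S := h.mem_E_of_conj (hg x hx) (hxc.trans (isConj_iff.2 ⟨g, rfl⟩))
  have h4 : g * y * g⁻¹ ∈ E t S := h.mem_E_of_conj (hg y hy) (hyc.trans (isConj_iff.2 ⟨g, rfl⟩))
  refine ⟨g, h3, h4, ?_⟩
  have h5 := h.E_comm h3 h4
  have h6 : g * (x * y) * g⁻¹ = g * (y * x) * g⁻¹ := by
    calc g * (x * y) * g⁻¹ = g * x * g⁻¹ * (g * y * g⁻¹) := by group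
      _ = _ := by rw [h5]; group
  exact mul_left_cancel (mul_right_cancel h6)

theorem sq_of_conj (h : Hyp t S) {x : G} (hx : IsConj t x) : x * x = 1 := by
  obtain ⟨g, rfl⟩ := isConj_iff.1 hx
  calc g * t * g⁻¹ * (g * t * g⁻¹) = g * (t * t) * g⁻¹ := by group
    _ = 1 := by rw [h.t_sq]; group

/-- two commuting conjugates of `t` are simultaneously conjugate into `E` -/
theorem exists_conj_of_comm (h : Hyp t S) {x y : G} (hxc : IsConj t x) (hyc : IsConj t y) (hxy : x * y = y * x) :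
    ∃ g : G, g * x * g⁻¹ ∈ E t S ∧ g * y * g⁻¹ ∈ E t S := by
  have hx := h.sq_of_conj hxc
  have hy := h.sq_of_conj hyc
  have hP : IsPGroup 2 (closure ({x, y} : Set G)) := by
    intro z
    have hab : ∀ a ∈ closure ({x, y} : Set G), ∀ b ∈ closure ({x, y} : Set G), a * b = b * a := by
      intro a ha b hb
      have := Subgroup.isMulCommutative_closure (k := ({x, y} : Set G)) (by
        rintro a (rfl | rfl) b (rfl | rfl) <;> simp_all)
      exact congrArg Subtype.val (this.is_comm.comm ⟨a, ha⟩ ⟨b, hb⟩)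
    refine ⟨1, ?_⟩
    apply Subtype.ext
    rw [pow_one]
    change (z : G) ^ 2 = 1
    obtain ⟨z, hz⟩ := z
    change z ^ 2 = 1
    induction hz using Subgroup.closure_induction with
    | mem a ha =>
      rw [pow_two]
      rcases ha with rfl | rfl
      · exact hx
      · exact hy
    | one => exact one_pow 2
    | mul a b ha hb iha ihb =>
      rw [pow_two] at *
      calc a * b * (a * b) = a * (b * a) * b := by group
        _ = (a * a) * (b * b) := by rw [hab b hb a ha]; group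
        _ = 1 := by rw [iha, ihb, one_mul]
    | inv a ha iha => rw [inv_pow, iha, inv_one]
  obtain ⟨g, h1, h2, -⟩ := h.comm_of_isPGroup hP (Subgroup.subset_closure (by simp)) (Subgroup.subset_closure (by simp))
    hxc hyc
  exact ⟨g, h1, h2⟩

end Hyp

end Cfsg.Agent.H318.JOne
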