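import Cfsg.Agent.H318.JOneB
import Cfsg.Agent.Lib.MinNormalNonabelian

/-!
# Weak closure `Z₂ × A₅`: quotients, and the simple normal closure in the reduced case (helper318)
-/

set_option autoImplicit false
set_option linter.unusedSectionVars false

namespace Cfsg.Agent.H318.JOne

open Subgroup TwoFive Lib.MinNormalNonabelian
open scoped commutatorElement

variable {G : Type*} [Group G] [Finite G] {t : G} {S : Sylow 2 G}

theorem mem_nc (t : G) : t ∈ normalClosure ({t} : Set G) := Subgroup.subset_normalClosure rfl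

theorem conj_mem_nc {t x : G} (h : IsConj t x) : x ∈ normalClosure ({t} : Set G) := by
  obtain ⟨g, rfl⟩ := isConj_iff.1 h
  exact (Subgroup.normalClosure_normal (s := ({t} : Set G))).conj_mem _ (mem_nc t) g

theorem wc_le_nc (t : G) : wc t ≤ normalClosure ({t} : Set G) := by
  unfold wc
  rw [closure_le]
  rintro x ⟨g, hg, -⟩
  exact conj_mem_nc (isConj_iff.2 ⟨g, hg.symm⟩)

theorem E_le_nc (t : G) (S : Sylow 2 G) : Hyp.E t S ≤ normalClosure ({t} : Set G) :=
  inf_le_right.trans (wc_le_nc t)

namespace Hyp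

/-- modulo `M`, conjugates of `t` commute with `t` only if they commute with `t` -/
theorem comm_of_comm_mod (h : Hyp t S) {M : Subgroup G} (hM : M.Normal) (htM : t ∉ M) {x : G}
    (hx : IsConj t x) (hc : ⁅x, t⁆ ∈ M) : x * t = t * x := by
  set c := ⁅x, t⁆ with hcdef
  have h1 : x * t * x⁻¹ = c * t := by rw [hcdef, commutatorElement_def]; group
  have h2 : c * t = t * c := by
    have := h.normalClosure_le hM htM (mem_nc t)
    exact (mem_centralizer_iff.1 this) c hc
  have h3 : IsConj t (c * t) := isConj_iff.2 ⟨x, h1⟩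
  obtain ⟨g, hg1, hg2⟩ := h.exists_conj_of_comm h3 (IsConj.refl t) (by
    calc c * t * t = t * c * t := by rw [h2]
      _ = t * (c * t) := by group)
  have h4 : g * c * g⁻¹ ∈ E t S ⊓ M := by
    refine ⟨?_, hM.conj_mem c hc g⟩
    have := (E t S).mul_mem hg1 hg2
    have h5 : g * (c * t) * g⁻¹ * (g * t * g⁻¹) = g * c * g⁻¹ := by
      calc g * (c * t) * g⁻¹ * (g * t * g⁻¹) = g * c * (t * t) * g⁻¹ := by group
        _ = _ := by rw [h.t_sq]; group
    rwa [h5] at this
  rw [h.E_inf hM htM, mem_bot, mul_inv_eq_one] at h4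
  have h5 : c = 1 := by simpa using h4
  rw [h5, one_mul, mul_inv_eq_iff_eq_mul] at h1
  exact h1

/-- the weak closure in the quotient -/
theorem wc_map (h : Hyp t S) (M : Subgroup G) [hM : M.Normal] (htM : t ∉ M) :
    wc (QuotientGroup.mk' M t) = (wc t).map (QuotientGroup.mk' M) := by
  have hdef : wc t = closure {x : G | ∃ g : G, x = g * t * g⁻¹ ∧ x * t = t * x} := rfl
  rw [hdef, MonoidHom.map_closure]
  unfold wc
  congr 1
  ext y
  constructor
  · rintro ⟨g, hg, hy⟩
    obtain ⟨g, rfl⟩ := QuotientGroup.mk'_surjective M g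
    refine ⟨g * t * g⁻¹, ⟨g, rfl, ?_⟩, ?_⟩
    · apply h.comm_of_comm_mod hM htM (isConj_iff.2 ⟨g, rfl⟩)
      rw [← QuotientGroup.eq_one_iff]
      change QuotientGroup.mk' M ⁅g * t * g⁻¹, t⁆ = 1
      rw [map_commutatorElement, commutatorElement_eq_one_iff_mul_comm, map_mul, map_mul, map_inv, ← hg]
      exact hy
    · rw [hg, map_mul, map_mul, map_inv]
  · rintro ⟨x, ⟨g, hg, hx⟩, rfl⟩
    refine ⟨QuotientGroup.mk' M g, ?_, ?_⟩
    · rw [hg, map_mul, map_mul, map_inv]
    · rw [← map_mul, ← map_mul, hx]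

/-- **The hypothesis passes to `G / M`, `t ∉ M`.** -/
theorem quotient (h : Hyp t S) (M : Subgroup G) [hM : M.Normal] (htM : t ∉ M) :
    Hyp (QuotientGroup.mk' M t) (S.mapSurjective (QuotientGroup.mk'_surjective M)) := by
  refine ⟨?_, ⟨t, h.htS, rfl⟩, ?_, ?_⟩
  · rw [orderOf_eq_prime_iff]
    refine ⟨?_, ?_⟩
    · rw [← map_pow, pow_two, h.t_sq, map_one]
    · intro h1
      exact htM ((QuotientGroup.eq_one_iff t).1 h1)
  · rintro _ ⟨s, hs, rfl⟩
    rw [← map_mul, ← map_mul, h.htc s hs]
  · obtain ⟨e⟩ := h.iso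
    rw [h.wc_map M htM]
    have hinj : Function.Injective ((QuotientGroup.mk' M).subgroupMap (wc t)) := by
      rw [injective_iff_map_eq_one]
      rintro ⟨x, hx⟩ hx1
      have h1 : QuotientGroup.mk' M x = 1 := congrArg Subtype.val hx1
      have h2 : x ∈ wc t ⊓ M := ⟨hx, (QuotientGroup.eq_one_iff x).1 h1⟩
      rw [h.wc_inf hM htM, mem_bot] at h2
      exact Subtype.ext h2
    exact ⟨(MulEquiv.ofBijective _ ⟨hinj, (QuotientGroup.mk' M).subgroupMap_surjective (wc t)⟩).symm.trans e⟩

/-- `W` is not commutative -/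
theorem exists_not_comm (h : Hyp t S) : ∃ x ∈ wc t, ∃ y ∈ wc t, x * y ≠ y * x := by
  obtain ⟨e⟩ := h.iso
  by_contra hcon
  push Not at hcon
  have h1 : ∀ a : A5, a = 1 := by
    intro a
    apply cent_trivial
    intro b
    obtain ⟨x, hx⟩ := e.surjective (1, a)
    obtain ⟨y, hy⟩ := e.surjective (1, b)
    have h2 : y * x = x * y := Subtype.ext (hcon y y.2 x x.2)
    have h3 : e y * e x = e x * e y := by rw [← map_mul, ← map_mul, h2]
    rw [hx, hy] at h3
    exact congrArg Prod.snd h3
  have : Nat.card A5 = 1 := by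
    rw [Nat.card_eq_one_iff_unique]
    exact ⟨⟨fun a b => (h1 a).trans (h1 b).symm⟩, ⟨1⟩⟩
  rw [card_A] at this
  omega

/-- the normal closure of `t` is not centralised by `t` -/
theorem not_central (h : Hyp t S) : ¬ t ∈ centralizer (normalClosure ({t} : Set G) : Set G) := by
  intro ht
  have hn : (centralizer (normalClosure ({t} : Set G) : Set G)).Normal := inferInstance
  have h1 : normalClosure ({t} : Set G) ≤ centralizer (normalClosure ({t} : Set G) : Set G) := by
    apply Subgroup.normalClosure_le_normal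
    rw [Set.singleton_subset_iff]
    exact ht
  obtain ⟨x, hx, y, hy, hxy⟩ := h.exists_not_comm
  exact hxy ((mem_centralizer_iff.1 (h1 (wc_le_nc t hy))) x (wc_le_nc t hx))

section Reduced

variable (hred : ∀ M : Subgroup G, M.Normal → t ∉ M → M = ⊥)

include hred

theorem minimal (M : Subgroup G) (hM : M.Normal) (hle : M ≤ normalClosure ({t} : Set G)) :
    M = ⊥ ∨ M = normalClosure ({t} : Set G) := by
  by_cases htM : t ∈ M
  · right
    apply le_antisymm hle
    apply Subgroup.normalClosure_le_normal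
    rw [Set.singleton_subset_iff]
    exact htM
  · left
    exact hred M hM htM

/-- **In the reduced case the normal closure of `t` is simple.** -/
theorem isSimple (h : Hyp t S) : IsSimpleGroup (normalClosure ({t} : Set G)) := by
  set X := normalClosure ({t} : Set G) with hX
  have hXn : X.Normal := Subgroup.normalClosure_normal
  have hEX : E t S ≤ X := E_le_nc t S
  obtain ⟨-, hind, hsup, hsimple, hcen, -⟩ := nonabelian_structure X (minimal hred) (by
    intro hc
    obtain ⟨x, hx, y, hy, hxy⟩ := h.exists_not_comm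
    exact hxy (hc x (wc_le_nc t hx) y (wc_le_nc t hy)))
  -- distinct members commute
  have hcomm : ∀ T₁ ∈ minSet X, ∀ T₂ ∈ minSet X, T₁ ≠ T₂ → ∀ a ∈ T₁, ∀ b ∈ T₂, a * b = b * a := by
    intro T₁ h1 T₂ h2 hne a ha b hb
    have hdis : T₁ ⊓ T₂ = ⊥ := by
      have hN : X ≤ normalizer ((T₁ ⊓ T₂ : Subgroup G) : Set G) := by
        intro x hx
        rw [mem_normalizer_iff]
        intro y
        constructor
        · rintro ⟨hy1, hy2⟩
          exact ⟨(mem_normalizer_iff.1 (h1.2.2.1 hx) y).1 hy1, (mem_normalizer_iff.1 (h2.2.2.1 hx) y).1 hy2⟩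
        · rintro ⟨hy1, hy2⟩
          exact ⟨(mem_normalizer_iff.1 (h1.2.2.1 hx) y).2 hy1, (mem_normalizer_iff.1 (h2.2.2.1 hx) y).2 hy2⟩
      rcases h1.2.2.2 (T₁ ⊓ T₂) inf_le_left hN with h3 | h3
      · exact h3
      · rcases h2.2.2.2 (T₁ ⊓ T₂) inf_le_right hN with h4 | h4
        · exact h4
        · exact (hne (h3.symm.trans h4)).elim
    have h3 : a * b * a⁻¹ * b⁻¹ ∈ T₁ ⊓ T₂ := by
      constructor
      · have : a * b * a⁻¹ * b⁻¹ = a * (b * a⁻¹ * b⁻¹) := by group
        rw [this]
        exact T₁.mul_mem ha ((mem_normalizer_iff.1 (h1.2.2.1 (h2.1 hb)) _).1 (T₁.inv_mem ha))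
      · exact T₂.mul_mem ((mem_normalizer_iff.1 (h2.2.2.1 (h1.1 ha)) _).1 hb) (T₂.inv_mem hb)
    rw [hdis, mem_bot, mul_inv_eq_one, mul_inv_eq_iff_eq_mul] at h3
    exact h3
  -- some member meets `E`
  have h1 : ∃ T ∈ minSet X, ∃ x ∈ E t S, x ≠ 1 ∧ x ∈ T := by
    by_contra hcon
    push Not at hcon
    apply h.not_central
    have hall : ∀ T ∈ minSet X, E t S ≤ centralizer (T : Set G) := by
      intro T hT
      apply Cfsg.Agent.S1251.result S (E t S) h.closed T (hEX.trans hT.2.2.1)
      · -- the odd core of `T`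
        have hTs := hsimple T hT
        rcases IsSimpleGroup.eq_bot_or_eq_top_of_normal (Cfsg.oddCore T) (Lib.Cores.pPrimeCore_normal 2) with h2 | h2
        · exact h2
        · exfalso
          have hTodd := (Lib.Cores.pPrimeCore_eq_top_iff (G := T) 2).1 h2
          have hTn : (T.subgroupOf X).Normal := by
            refine ⟨fun a ha b => ?_⟩
            rw [mem_subgroupOf] at ha ⊢
            exact (mem_normalizer_iff.1 (hT.2.2.1 b.2) _).1 ha
          have h3 : T.subgroupOf X ≤ Cfsg.pPrimeCore 2 X := by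
            apply Lib.Cores.le_pPrimeCore hTn
            rw [Nat.card_congr (Subgroup.subgroupOfEquivOfLe hT.1).toEquiv]
            exact hTodd
          have h4 : (Cfsg.pPrimeCore 2 X).map X.subtype = ⊥ := by
            rw [Lib.Cores.map_subtype_pPrimeCore 2 hXn]
            have h5 : Cfsg.pPrimeCore 2 G = ⊥ := by
              apply hred _ (Lib.Cores.pPrimeCore_normal 2)
              intro h6
              have h7 := Lib.Cores.pPrimeCore_coprime (G := G) 2
              have h8 : orderOf t ∣ Nat.card (Cfsg.pPrimeCore 2 G) := by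
                rw [← Subgroup.orderOf_mk t h6]
                exact orderOf_dvd_natCard _
              rw [h.ht] at h8
              have := Nat.Coprime.eq_one_of_dvd h7.symm h8
              omega
            rw [h5, inf_bot_eq]
          rw [Subgroup.map_eq_bot_iff_of_injective _ X.subtype_injective] at h4
          rw [h4, le_bot_iff, Subgroup.subgroupOf_eq_bot, disjoint_iff, inf_eq_left.2 hT.1] at h3
          exact hT.2.1 h3
      · rw [eq_bot_iff]
        rintro x ⟨hx, hxT⟩
        rw [mem_bot]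
        by_contra hx1
        exact hcon T hT x hx hx1 hxT
    rw [mem_centralizer_iff]
    have h2 : X ≤ centralizer ({t} : Set G) := by
      rw [← hsup]
      apply sSup_le
      intro T hT x hx
      rw [mem_centralizer_singleton_iff]
      exact (mem_centralizer_iff.1 (hall T hT h.t_mem_E)) x hx
    intro x hx
    exact mem_centralizer_singleton_iff.1 (h2 hx)
  obtain ⟨T₀, hT₀, x₀, hx₀, hx₀1, hx₀T⟩ := h1
  -- every conjugate of `t` lies in a member
  have hmem : ∀ u : G, IsConj t u → ∃ T ∈ minSet X, u ∈ T := by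
    intro u hu
    obtain ⟨g, hg⟩ := isConj_iff.1 ((h.conj_of_mem hx₀ hx₀1).symm.trans hu)
    refine ⟨_, map_conj_mem_minSet hT₀ g, ⟨x₀, hx₀T, hg⟩⟩
  obtain ⟨T₁, hT₁, htT₁⟩ := hmem t (IsConj.refl t)
  -- all conjugates lie in `T₁`
  have hall : ∀ u : G, IsConj t u → u ∈ T₁ := by
    intro u hu
    obtain ⟨T₂, hT₂, huT₂⟩ := hmem u hu
    by_contra hu1
    have hne : T₁ ≠ T₂ := by
      rintro rfl
      exact hu1 huT₂
    have hut : u * t = t * u := (hcomm T₁ hT₁ T₂ hT₂ hne t htT₁ u huT₂).symm
    obtain ⟨g, hgu, hgt⟩ := h.exists_conj_of_comm hu (IsConj.refl t) hut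
    have huu := h.sq_of_conj hu
    have hgut : g * (u * t) * g⁻¹ ∈ E t S := by
      have := (E t S).mul_mem hgu hgt
      have h5 : g * u * g⁻¹ * (g * t * g⁻¹) = g * (u * t) * g⁻¹ := by group
      rwa [h5] at this
    have hne1 : g * (u * t) * g⁻¹ ≠ 1 := by
      intro h6
      rw [mul_inv_eq_one] at h6
      have h7 : u * t = 1 := by simpa using h6
      have h8 : u = t := by
        calc u = u * (t * t) := by rw [h.t_sq, mul_one]
          _ = u * t * t := by group
          _ = t := by rw [h7, one_mul]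
      rw [h8] at hu1
      exact hu1 htT₁
    have hc : IsConj t (u * t) := (h.conj_of_mem hgut hne1).trans
      (isConj_iff.2 ⟨g⁻¹, by group⟩)
    obtain ⟨T₃, hT₃, hT₃m⟩ := hmem _ hc
    by_cases h31 : T₃ = T₁
    · subst h31
      apply hu1
      have := T₃.mul_mem hT₃m htT₁
      rwa [mul_assoc, h.t_sq, mul_one] at this
    · -- `u t` and `u` commute with `T₁`
      have h6 : ∀ a ∈ T₁, Commute t a := by
        intro a ha
        have h7 := hcomm T₁ hT₁ T₃ hT₃ (Ne.symm h31) a ha (u * t) hT₃m
        have h8 := hcomm T₁ hT₁ T₂ hT₂ hne a ha u huT₂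
        have h9 : t = u * (u * t) := by rw [← mul_assoc, huu, one_mul]
        change t * a = a * t
        calc t * a = u * (u * t) * a := by rw [← h9]
          _ = u * ((u * t) * a) := by group
          _ = u * (a * (u * t)) := by rw [h7]
          _ = (u * a) * (u * t) := by group
          _ = (a * u) * (u * t) := by rw [h8]
          _ = a * (u * (u * t)) := by group
          _ = a * t := by rw [← h9]
      exact h.t_ne (hcen T₁ hT₁ t htT₁ h6)
  have hXT : X = T₁ := by
    apply le_antisymm _ hT₁.1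
    rw [hX, Subgroup.normalClosure, closure_le]
    intro u hu
    obtain ⟨a, ha, hau⟩ := Group.mem_conjugatesOfSet_iff.1 hu
    rw [Set.mem_singleton_iff] at ha
    subst ha
    exact hall u hau
  rw [hXT]
  exact hsimple T₁ hT₁

end Reduced

end Hyp

end Cfsg.Agent.H318.JOne
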