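import Cfsg.Agent.H318.JOneC
import Cfsg.Agent.Lib.SylowNormalInf
import Cfsg.Agent.S0215

/-!
# Weak closure `Z₂ × A₅`: the hypothesis holds for the normal closure (helper318)
-/

set_option autoImplicit false
set_option linter.unusedSectionVars false

namespace Cfsg.Agent.H318.JOne

open Subgroup TwoFive

variable {G : Type*} [Group G] [Finite G] {t : G} {S : Sylow 2 G}

/-- a normal subgroup of `Z₂ × A₅` containing the centre and a noncentral element is everything -/
theorem K_normal_top (N : Subgroup K) (hN : N.Normal) (h1 : ((Multiplicative.ofAdd 1, 1) : K) ∈ N) {x : K}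
    (hx : x ∈ N) (hx2 : x.2 ≠ 1) : N = ⊤ := by
  have hn : (N.map (MonoidHom.snd (Multiplicative (ZMod 2)) A5)).Normal :=
    hN.map _ Prod.snd_surjective
  have htop : N.map (MonoidHom.snd (Multiplicative (ZMod 2)) A5) = ⊤ := by
    rcases IsSimpleGroup.eq_bot_or_eq_top_of_normal _ hn with h | h
    · exfalso
      have h2 : x.2 ∈ N.map (MonoidHom.snd (Multiplicative (ZMod 2)) A5) := ⟨x, hx, rfl⟩
      rw [h, mem_bot] at h2
      exact hx2 h2
    · exact h
  rw [eq_top_iff]
  intro y _
  have h2 : y.2 ∈ N.map (MonoidHom.snd (Multiplicative (ZMod 2)) A5) := by rw [htop]; exact mem_top _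
  obtain ⟨z, hz, hzy⟩ := h2
  have hzy' : z.2 = y.2 := hzy
  have h3 : y = z ∨ y = ((Multiplicative.ofAdd 1, 1) : K) * z := by
    have : y.1 = z.1 ∨ y.1 = Multiplicative.ofAdd 1 * z.1 := by
      generalize y.1 = a
      generalize z.1 = b
      revert a b
      decide
    rcases this with h | h
    · left
      exact Prod.ext h hzy'.symm
    · right
      exact Prod.ext h (by change y.2 = 1 * z.2; rw [one_mul, hzy'])
  rcases h3 with rfl | rfl
  · exact hz
  · exact N.mul_mem h1 hz

namespace Hyp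

/-- the Sylow subgroup of a normal subgroup -/
noncomputable def sylowOf (S : Sylow 2 G) (X : Subgroup G) [X.Normal] : Sylow 2 X :=
  haveI : Fact (Nat.Prime 2) := ⟨Nat.prime_two⟩
  (Lib.SylowNormalInf.isPGroup_subgroupOf S X).toSylow (Lib.SylowNormalInf.not_dvd_relIndex S X)

theorem mem_sylowOf {S : Sylow 2 G} {X : Subgroup G} [X.Normal] {x : X} :
    x ∈ (sylowOf S X : Subgroup X) ↔ (x : G) ∈ (S : Subgroup G) := Iff.rfl

/-- **The hypothesis holds for the normal closure of `t` in the reduced case.** -/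
theorem of_reduced (h : Hyp t S) (hred : ∀ M : Subgroup G, M.Normal → t ∉ M → M = ⊥) :
    Hyp (⟨t, mem_nc t⟩ : normalClosure ({t} : Set G)) (sylowOf S (normalClosure ({t} : Set G))) := by
  set X := normalClosure ({t} : Set G) with hX
  have hXn : X.Normal := Subgroup.normalClosure_normal
  set t' : X := ⟨t, mem_nc t⟩ with ht'
  have hs := h.isSimple hred
  have hot : orderOf t' = 2 := by rw [ht', Subgroup.orderOf_mk]; exact h.ht
  have htS' : t' ∈ (sylowOf S X : Subgroup X) := mem_sylowOf.2 h.htS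
  refine ⟨hot, htS', ?_, ?_⟩
  · intro s hs
    exact Subtype.ext (h.htc s (mem_sylowOf.1 hs))
  · -- a conjugate `≠ t` in `X`
    have hex : ∃ g : X, g * t' * g⁻¹ ∈ (sylowOf S X : Subgroup X) ∧ g * t' * g⁻¹ ≠ t' := by
      by_contra hcon
      push Not at hcon
      obtain ⟨N, hN, hNodd, hc⟩ := Cfsg.Agent.S0215.result (sylowOf S X) t' hot htS' hcon
      have hNb : N = ⊥ := by
        rcases IsSimpleGroup.eq_bot_or_eq_top_of_normal N hN with h1 | h1
        · exact h1
        · exfalso
          have h2 : orderOf t' ∣ Nat.card N := by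
            rw [h1]
            have : orderOf t' ∣ Nat.card X := orderOf_dvd_natCard _
            rwa [Nat.card_congr Subgroup.topEquiv.toEquiv]
          rw [hot, ← even_iff_two_dvd, ← Nat.not_odd_iff_even] at h2
          exact h2 hNodd
      apply h.not_central
      rw [mem_centralizer_iff]
      intro x hx
      have h1 := hc ⟨x, hx⟩
      rw [hNb, mem_bot, mul_inv_eq_one, mul_inv_eq_iff_eq_mul] at h1
      exact (congrArg Subtype.val h1).symm
    obtain ⟨g, hgS, hgt⟩ := hex
    have hWX : wc t ≤ X := wc_le_nc t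
    -- the map
    have hle : (wc t').map X.subtype ≤ wc t := by
      unfold wc
      rw [MonoidHom.map_closure, closure_le]
      rintro _ ⟨x, ⟨k, hk, hx⟩, rfl⟩
      apply Subgroup.subset_closure
      exact ⟨k, congrArg Subtype.val hk, congrArg Subtype.val hx⟩
    obtain ⟨e⟩ := h.iso
    let B : Subgroup (wc t) := ((wc t').map X.subtype).subgroupOf (wc t)
    have hBn : B.Normal := by
      refine ⟨fun b hb w => ?_⟩
      rw [mem_subgroupOf] at hb ⊢
      obtain ⟨b', hb', hbb⟩ := hb
      refine ⟨⟨(w : G), hWX w.2⟩ * b' * ⟨(w : G), hWX w.2⟩⁻¹, ?_, ?_⟩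
      · apply conj_mem _ hb'
        exact Subtype.ext (comm_of_mem w.2)
      · change (w : G) * (b' : G) * (w : G)⁻¹ = w * b * (w : G)⁻¹
        rw [← hbb]
        rfl
    have htB : (⟨t, t_mem t⟩ : wc t) ∈ B := mem_subgroupOf.2 ⟨t', t_mem t', rfl⟩
    have hx : (g * t' * g⁻¹ : X) * t' = t' * (g * t' * g⁻¹) :=
      Subtype.ext (h.htc _ (mem_sylowOf.1 hgS))
    have hxw' : g * t' * g⁻¹ ∈ wc t' := mem_of_conj (isConj_iff.2 ⟨g, rfl⟩) hx
    have hxw : ((g * t' * g⁻¹ : X) : G) ∈ wc t := hle ⟨_, hxw', rfl⟩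
    have hxB : (⟨_, hxw⟩ : wc t) ∈ B := mem_subgroupOf.2 ⟨_, hxw', rfl⟩
    have hx1 : ((g * t' * g⁻¹ : X) : G) ≠ 1 := by
      intro h1
      have h2 : g * t' * g⁻¹ = 1 := Subtype.ext h1
      rw [mul_inv_eq_one] at h2
      have h3 : t' = 1 := by simpa using h2
      exact h.t_ne (congrArg Subtype.val h3)
    have hxt : ((g * t' * g⁻¹ : X) : G) ≠ t := fun h1 => hgt (Subtype.ext h1)
    have hBK : B.map e.toMonoidHom = ⊤ := by
      apply K_normal_top _ (hBn.map _ e.surjective) ⟨_, htB, h.e_t e⟩ (x := e ⟨_, hxw⟩) ⟨_, hxB, rfl⟩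
      exact h.snd_ne e hxw hx1 hxt
    have hBtop : B = ⊤ := by
      rw [eq_top_iff]
      intro w _
      have h1 : e w ∈ B.map e.toMonoidHom := by rw [hBK]; exact mem_top _
      obtain ⟨w', hw', hww⟩ := h1
      have : w' = w := e.injective hww
      rwa [← this]
    have heq : (wc t').map X.subtype = wc t := by
      apply le_antisymm hle
      intro w hw
      have h1 : (⟨w, hw⟩ : wc t) ∈ B := by rw [hBtop]; exact mem_top _
      exact mem_subgroupOf.1 h1
    refine ⟨?_⟩
    have e1 : wc t' ≃* (wc t').map X.subtype :=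
      (wc t').equivMapOfInjective X.subtype X.subtype_injective
    exact (e1.trans (MulEquiv.subgroupCongr heq)).trans e

end Hyp

end Cfsg.Agent.H318.JOne
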