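import Cfsg.Agent.H318.JOneE
import Cfsg.Agent.PermutationGroups.ZassEnd
import Cfsg.Agent.SporadicB.J1.Main

/-!
# Weak closure `Z₂ × A₅`: the end (helper318)
-/

set_option autoImplicit false
set_option linter.unusedSectionVars false

namespace Cfsg.Agent.H318.JOne

open Subgroup TwoFive

theorem card_isoJ1 {X : Type*} [Group X] (h : Cfsg.Spor.IsoJ1 X) : Nat.card X = 175560 := by
  obtain ⟨e⟩ := h
  rw [Nat.card_congr e.toEquiv]
  exact SporadicB.J1.Main.isJ1.2

theorem sq_dvd {p : ℕ} (hp : p.Prime) (h2 : p ≠ 2) (h : p ^ 2 ∣ 175560) : False := by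
  have hc : Nat.Coprime (p ^ 2) 8 := by
    have : (8 : ℕ) = 2 ^ 3 := by norm_num
    rw [this]
    exact Nat.Coprime.pow _ _ ((Nat.coprime_primes hp Nat.prime_two).2 h2)
  have h1 : p ^ 2 ∣ 21945 := hc.dvd_of_dvd_mul_left (by norm_num; exact h)
  have hle : p ^ 2 ≤ 21945 := Nat.le_of_dvd (by norm_num) h1
  have hlt : p < 149 := by nlinarith
  have key : ∀ q < 149, q ^ 2 ∣ 21945 → q = 1 := by decide +kernel
  exact hp.one_lt.ne' (key p hlt h1)

/-- a perfect central extension of a group of order 175560 whose Sylow 2-subgroup splits is trivial -/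
theorem kernel_bot {X Y : Type*} [Group X] [Finite X] [Group Y] [Finite Y] (hY : Nat.card Y = 175560)
    (f : X →* Y) (hk : f.ker ≤ center X) (hperf : commutator X = ⊤) (P2 : Sylow 2 X) (E : Subgroup X)
    (hE : E ≤ (P2 : Subgroup X)) (h8 : Nat.card E = 8) (hEc : ∀ x ∈ E, ∀ y ∈ E, x * y = y * x)
    (hEk : E ⊓ f.ker = ⊥) : f.ker = ⊥ := by
  by_contra hne
  have hc1 : Nat.card f.ker ≠ 1 := fun h1 => hne (Subgroup.card_eq_one.1 h1)
  obtain ⟨p, hp, hpd⟩ := Nat.exists_prime_and_dvd hc1
  have hpf : Fact p.Prime := ⟨hp⟩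
  obtain ⟨x, hx⟩ := exists_prime_orderOf_dvd_card' (G := f.ker) p hpd
  have hxo : orderOf (x : X) = p := by rw [Subgroup.orderOf_coe]; exact hx
  have hdvd : ∀ P : Subgroup X, Nat.card (P.map f) ∣ 175560 := by
    intro P
    rw [← hY]
    exact Subgroup.card_subgroup_dvd_card _
  by_cases h2 : p = 2
  · subst h2
    have hmap : E.map f = (P2 : Subgroup X).map f := by
      apply Subgroup.eq_of_le_of_card_ge (Subgroup.map_mono hE)
      have hinj : Function.Injective (f.subgroupMap E) := by
        rw [injective_iff_map_eq_one]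
        intro a ha
        have h3 : (a : X) ∈ E ⊓ f.ker := ⟨a.2, congrArg Subtype.val ha⟩
        rw [hEk, mem_bot] at h3
        exact Subtype.ext h3
      have h3 : Nat.card (E.map f) = 8 := by
        rw [← h8]
        exact (Nat.card_congr (Equiv.ofBijective _ ⟨hinj, f.subgroupMap_surjective E⟩)).symm
      rw [h3]
      obtain ⟨k, hk⟩ := IsPGroup.iff_card.1 (P2.2.map f)
      have h4 := hdvd (P2 : Subgroup X)
      rw [hk] at h4 ⊢
      have h5 : k < 4 := by
        by_contra hlt
        have h6 : 2 ^ 4 ∣ 175560 := (pow_dvd_pow 2 (by omega : 4 ≤ k)).trans h4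
        revert h6
        decide
      calc 2 ^ k ≤ 2 ^ 3 := Nat.pow_le_pow_right (by norm_num) (by omega)
        _ = 8 := by norm_num
    have hP : IsMulCommutative (P2 : Subgroup X) := by
      refine ⟨⟨fun a b => Subtype.ext ?_⟩⟩
      have hdec : ∀ a : (P2 : Subgroup X), ∃ e ∈ E, ∃ z ∈ center X, (a : X) = e * z := by
        intro a
        have h3 : f a ∈ (P2 : Subgroup X).map f := ⟨a, a.2, rfl⟩
        rw [← hmap] at h3
        obtain ⟨e, he, hea⟩ := h3
        refine ⟨e, he, e⁻¹ * a, hk ?_, by group⟩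
        rw [MonoidHom.mem_ker, map_mul, map_inv, hea, inv_mul_cancel]
      obtain ⟨e, he, z, hz, hae⟩ := hdec a
      obtain ⟨e', he', z', hz', hae'⟩ := hdec b
      change (a : X) * b = b * a
      rw [hae, hae']
      have h3 := mem_center_iff.1 hz
      have h4 := mem_center_iff.1 hz'
      calc e * z * (e' * z') = e * (z * e') * z' := by group
        _ = e * e' * z * z' := by rw [← h3]; group
        _ = e' * e * z * z' := by rw [hEc e he e' he']
        _ = e' * (e * z * z') := by group
        _ = e' * (z' * (e * z)) := by rw [h4]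
        _ = _ := by group
    exact PermutationGroups.ZassEnd.no_central hperf P2 (x : X) (hk x.2) hxo
  · let P : Sylow p X := default
    have hcy : IsCyclic ((P : Subgroup X).map f) := by
      obtain ⟨k, hk⟩ := IsPGroup.iff_card.1 (P.2.map f)
      have h4 := hdvd (P : Subgroup X)
      have h5 : k ≤ 1 := by
        by_contra hlt
        rw [hk] at h4
        exact sq_dvd hp h2 ((pow_dvd_pow p (by omega : 2 ≤ k)).trans h4)
      apply isCyclic_of_card_dvd_prime (p := p)
      rw [hk]
      calc p ^ k ∣ p ^ 1 := pow_dvd_pow p h5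
        _ = p := pow_one p
    have hP : IsMulCommutative (P : Subgroup X) := by
      refine ⟨⟨fun a b => ?_⟩⟩
      apply commutative_of_cyclic_center_quotient (f.subgroupMap (P : Subgroup X))
      intro a ha
      rw [mem_center_iff]
      intro b
      have h3 : (a : X) ∈ f.ker := congrArg Subtype.val ha
      exact Subtype.ext (mem_center_iff.1 (hk h3) b)
    exact PermutationGroups.ZassEnd.no_central hperf P (x : X) (hk x.2) hxo

variable {G : Type*} [Group G] [Finite G] {t : G} {S : Sylow 2 G}

theorem exists_inv : ∃ a : A5, a * a = 1 ∧ a ≠ 1 := by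
  decide +kernel

namespace Hyp

/-- the normal closure of `t` is perfect -/
theorem perfect (h : Hyp t S) : commutator (normalClosure ({t} : Set G)) = ⊤ := by
  set X := normalClosure ({t} : Set G) with hX
  have hXn : X.Normal := Subgroup.normalClosure_normal
  have hDn : ((commutator X).map X.subtype).Normal := inferInstance
  have htD : t ∈ (commutator X).map X.subtype := by
    obtain ⟨e⟩ := h.iso
    obtain ⟨c, hc, hc1⟩ := exists_inv
    set v : wc t := e.symm (1, c) with hv
    have hv1 : v ≠ 1 := by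
      intro h1
      have h2 := congrArg e h1
      rw [hv, MulEquiv.apply_symm_apply, map_one] at h2
      exact hc1 (congrArg Prod.snd h2)
    have hvv : v * v = 1 := by
      rw [hv, ← map_mul]
      have : ((1, c) : K) * (1, c) = 1 := Prod.ext (one_mul 1) hc
      rw [this, map_one]
    have hvc : v ∈ commutator (wc t) := by
      have h2 : ((1, c) : K) ∈ commutator K := K_comm.2 rfl
      have h3 : (commutator K).map e.symm.toMonoidHom ≤ commutator (wc t) := by
        rw [commutator_def, commutator_def, Subgroup.map_commutator]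
        exact Subgroup.commutator_mono le_top le_top
      exact h3 ⟨_, h2, rfl⟩
    have hvD : (v : G) ∈ (commutator X).map X.subtype := by
      have h3 : (commutator (wc t)).map (Subgroup.inclusion (wc_le_nc t)) ≤ commutator X := by
        rw [commutator_def, commutator_def, Subgroup.map_commutator]
        exact Subgroup.commutator_mono le_top le_top
      exact ⟨_, h3 ⟨v, hvc, rfl⟩, rfl⟩
    obtain ⟨m, -, hm⟩ := h.exists_conj_E (P := zpowers (v : G))
      (isPGroup_zpowers_of_sq (congrArg Subtype.val hvv)) (by rw [zpowers_le]; exact v.2)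
    have h1 := hm v (mem_zpowers _)
    have h2 : m * (v : G) * m⁻¹ ≠ 1 := by
      intro h3
      rw [mul_inv_eq_one] at h3
      exact hv1 (Subtype.ext (by simpa using h3))
    obtain ⟨g, hg⟩ := isConj_iff.1 (h.conj_of_mem h1 h2)
    have h3 : t = g⁻¹ * (m * v * m⁻¹) * g⁻¹⁻¹ := by rw [← hg]; group
    rw [h3]
    exact hDn.conj_mem _ (hDn.conj_mem _ hvD m) g⁻¹
  have hle : X ≤ (commutator X).map X.subtype := by
    have h1 : normalClosure ({t} : Set G) ≤ (commutator X).map X.subtype := by
      apply Subgroup.normalClosure_le_normal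
      rw [Set.singleton_subset_iff]
      exact htD
    exact h1
  rw [eq_top_iff]
  intro x _
  obtain ⟨y, hy, hyx⟩ := hle x.2
  have : y = x := Subtype.ext hyx
  rwa [← this]

/-- **Weak closure `Z₂ × A₅`.** -/
theorem isoJ1 (h : Hyp t S) : Cfsg.Spor.IsoJ1 (normalClosure ({t} : Set G)) := by
  obtain ⟨M, hM⟩ : ∃ M : Subgroup G, Maximal (fun M : Subgroup G => M.Normal ∧ t ∉ M) M := by
    apply Set.Finite.exists_maximal (s := {M : Subgroup G | M.Normal ∧ t ∉ M}) (Set.toFinite _)
    exact ⟨⊥, inferInstance, fun h1 => h.t_ne (mem_bot.1 h1)⟩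
  have hMn : M.Normal := hM.1.1
  have htM : t ∉ M := hM.1.2
  have hQ := h.quotient M htM
  have hred : ∀ N : Subgroup (G ⧸ M), N.Normal → QuotientGroup.mk' M t ∉ N → N = ⊥ := by
    intro N hN htN
    have h1 : M ≤ N.comap (QuotientGroup.mk' M) := by
      intro x hx
      rw [mem_comap]
      have : QuotientGroup.mk' M x = 1 := (QuotientGroup.eq_one_iff x).2 hx
      rw [this]
      exact N.one_mem
    have h2 := hM.2 (y := N.comap (QuotientGroup.mk' M)) ⟨inferInstance, htN⟩ h1
    rw [eq_bot_iff]
    intro x hx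
    obtain ⟨y, rfl⟩ := QuotientGroup.mk'_surjective M x
    exact (QuotientGroup.eq_one_iff y).2 (h2 hx)
  have hs := hQ.isSimple hred
  have hJ := (hQ.of_reduced hred).isoJ1_of_simple
  set X := normalClosure ({t} : Set G) with hX
  set t' := QuotientGroup.mk' M t with ht'
  have hXn : X.Normal := Subgroup.normalClosure_normal
  have heq : X.map (QuotientGroup.mk' M) = normalClosure ({t'} : Set (G ⧸ M)) := by
    rw [hX, Subgroup.map_normalClosure _ _ (QuotientGroup.mk'_surjective M), Set.image_singleton]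
  let f : X →* normalClosure ({t'} : Set (G ⧸ M)) :=
    (MulEquiv.subgroupCongr heq).toMonoidHom.comp ((QuotientGroup.mk' M).subgroupMap X)
  have hfs : Function.Surjective f :=
    (MulEquiv.subgroupCongr heq).surjective.comp ((QuotientGroup.mk' M).subgroupMap_surjective X)
  have hfk : ∀ x : X, x ∈ f.ker ↔ (x : G) ∈ M := by
    intro x
    rw [MonoidHom.mem_ker, ← QuotientGroup.eq_one_iff]
    constructor
    · intro h1
      exact congrArg Subtype.val h1
    · intro h1
      exact Subtype.ext h1
  have hEX : E t S ≤ X := E_le_nc t S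
  have hk : f.ker = ⊥ := by
    refine kernel_bot (card_isoJ1 hJ) f ?_ h.perfect (sylowOf S X) ((E t S).subgroupOf X) ?_ ?_ ?_ ?_
    · intro x hx
      rw [mem_center_iff]
      intro y
      have h1 := h.normalClosure_le hMn htM y.2
      exact Subtype.ext (mem_centralizer_iff.1 h1 x ((hfk x).1 hx)).symm
    · intro x hx
      exact mem_sylowOf.2 (mem_subgroupOf.1 hx).1
    · rw [Nat.card_congr (Subgroup.subgroupOfEquivOfLe hEX).toEquiv, h.card_E]
    · intro x hx y hy
      exact Subtype.ext (h.E_comm (mem_subgroupOf.1 hx) (mem_subgroupOf.1 hy))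
    · rw [eq_bot_iff]
      rintro x ⟨hx1, hx2⟩
      have h1 : (x : G) ∈ E t S ⊓ M := ⟨mem_subgroupOf.1 hx1, (hfk x).1 hx2⟩
      rw [h.E_inf hMn htM, mem_bot] at h1
      exact mem_bot.2 (Subtype.ext h1)
  obtain ⟨e⟩ := hJ
  exact ⟨(MulEquiv.ofBijective f ⟨(MonoidHom.ker_eq_bot_iff f).1 hk, hfs⟩).trans e⟩

end Hyp

end Cfsg.Agent.H318.JOne
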