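import Cfsg.Agent.H318.Six
import Cfsg.Agent.ETable.Exc
import Cfsg.Agent.ETable.ExcTwE6
import Cfsg.Agent.ChevalleyStructure.D4TwN

/-!
# Elements of order six in the exceptional groups, characteristic two (helper318)
-/

set_option autoImplicit false
set_option linter.unusedSectionVars false

namespace Cfsg.Agent.H318

open Cfsg Cfsg.Lie Cfsg.Agent.ETable.Exc Cfsg.Agent.ChevalleyStructure.Elts

universe u

namespace ExcTwo

variable {D : ChevalleyDatum} {F : Type u} [Field F]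

theorem x_sq (hD : InList D) (h2 : (2 : F) = 0) (r : ℕ) (t : F) : xG hD r t * xG hD r t = 1 := by
  have : t + t = 0 := by rw [← two_mul, h2, zero_mul]
  rw [xG_add, this, xG_zero]

theorem x_ne (hD : InList D) (h2 : (2 : F) = 0) {r : ℕ} (hr : r < D.nroots) : xG hD r (1 : F) ≠ 1 := by
  intro h
  have h1 := not_comm_two hD hr h2
  rw [h, mul_one, one_mul, one_mul] at h1
  exact h1 rfl

theorem z_ne (hD : InList D) (h2 : (2 : F) = 0) {r : ℕ} (hr : r < D.nroots) :
    xG hD r (1 : F) * xG hD (D.neg r) 1 ≠ 1 := by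
  intro h
  have h1 := not_comm_two hD hr h2
  rw [h, mul_one, one_mul] at h1
  exact h1 rfl

theorem z_cube (hD : InList D) (h2 : (2 : F) = 0) {r : ℕ} (hr : r < D.nroots) :
    (xG hD r (1 : F) * xG hD (D.neg r) 1) * (xG hD r (1 : F) * xG hD (D.neg r) 1) *
      (xG hD r (1 : F) * xG hD (D.neg r) 1) = 1 := by
  have h := z_pow_three hD hr h2
  rwa [pow_succ, pow_two] at h

/-- two strongly orthogonal roots -/
theorem six_of_so (hD : InList D) (h2 : (2 : F) = 0) {H : Subgroup (GL D.Idx F)} {r s : ℕ} (hr : r < D.nroots)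
    (hs : s < D.nroots) (h : SO D r s) (h1 : xG hD r 1 ∈ H) (h1' : xG hD (D.neg r) 1 ∈ H) (h3 : xG hD s 1 ∈ H) :
    Six H := by
  obtain ⟨c1, -, c2, -⟩ := h
  have e1 := comm_of_so (F := F) hD c1 1 1
  have e2 := comm_of_so (F := F) hD c2 1 1
  refine ⟨⟨_, h3⟩, ⟨_, mul_mem h1 h1'⟩, Subtype.ext ?_, ?_, Subtype.ext (x_sq hD h2 s 1), ?_,
    Subtype.ext (z_cube hD h2 hr)⟩
  · change xG hD s 1 * (xG hD r 1 * xG hD (D.neg r) 1) = xG hD r 1 * xG hD (D.neg r) 1 * xG hD s 1
    rw [← mul_assoc, ← e1, mul_assoc, ← e2, mul_assoc]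
  · intro h
    exact x_ne hD h2 hs (congrArg Subtype.val h)
  · intro h
    exact z_ne hD h2 hr (congrArg Subtype.val h)

theorem six_group (hD : InList D) (h2 : (2 : F) = 0) {r s : ℕ} (hr : r < D.nroots)
    (hs : s < D.nroots) (h : SO D r s) : Six (D.group F) :=
  six_of_so hD h2 hr hs h (xG_mem_group _ _ _) (xG_mem_group _ _ _) (xG_mem_group _ _ _)

theorem so_G2 : SO chevG2 7 11 := by decide +kernel
theorem so_F4 : SO chevF4 24 32 := by decide +kernel
theorem so_E6 : SO chevE6 36 39 := by decide +kernel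
theorem so_E7 : SO chevE7 63 66 := by decide +kernel
theorem so_E8 : SO chevE8 120 123 := by decide +kernel

end ExcTwo

open ExcTwo

variable {G : Type*} [Group G]

theorem six_G2_two {F : Type u} [Field F] (h2 : (2 : F) = 0) (e : G ≃* chevG2.group F) : Six G :=
  (six_group inList_G2 h2 (r := 7) (s := 11) (by decide +kernel) (by decide +kernel) so_G2).congr e.symm

theorem six_F4_two {F : Type u} [Field F] (h2 : (2 : F) = 0) (e : G ≃* chevF4.group F) : Six G :=
  (six_group inList_F4 h2 (r := 24) (s := 32) (by decide +kernel) (by decide +kernel) so_F4).congr e.symm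

theorem six_E6_two {F : Type u} [Field F] (h2 : (2 : F) = 0) (e : G ≃* chevE6.group F) : Six G :=
  (six_group inList_E6 h2 (r := 36) (s := 39) (by decide +kernel) (by decide +kernel) so_E6).congr e.symm

theorem six_E7_two {F : Type u} [Field F] (h2 : (2 : F) = 0) (e : G ≃* chevE7.group F) : Six G :=
  (six_group inList_E7 h2 (r := 63) (s := 66) (by decide +kernel) (by decide +kernel) so_E7).congr e.symm

theorem six_E8_two {F : Type u} [Field F] (h2 : (2 : F) = 0) (e : G ≃* chevE8.group F) : Six G :=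
  (six_group inList_E8 h2 (r := 120) (s := 123) (by decide +kernel) (by decide +kernel) so_E8).congr e.symm

/-! ### `²E₆(q)` -/

section TwE

open Cfsg.Agent.ChevalleyStructure.TwistedE6U Cfsg.Agent.ChevalleyStructure.TwistedE6G
open Cfsg.Agent.ChevalleyStructure.TwistedE6Sigma

theorem six_twE6_two {K : Type u} [Field K] [Finite K] (h2 : (2 : K) = 0) {q : ℕ} (hq : IsPrimePow q)
    (hK : Nat.card K = q ^ 2) (e : G ≃* twistedE6 K q) : Six G := by
  have h1 := neg_one_pow_q hq 2 two_ne_zero hK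
  have f0 := fix_twE6 0
  have f1 := fix_twE6 1
  refine Six.congr (six_of_so inList_E6 h2 (r := 39) (s := 44) (by decide +kernel) (by decide +kernel)
    (by decide +kernel) ?_ ?_ ?_) e.symm
  · exact X_mem h1 f0.1 f0.2.1 (one_pow q)
  · exact X_mem h1 f0.2.2.1 f0.2.2.2 (one_pow q)
  · exact X_mem h1 f1.1 f1.2.1 (one_pow q)

end TwE

/-! ### `³D₄(q)` -/

section TwD

open Cfsg.Agent.ChevalleyStructure
open Cfsg.Agent.ChevalleyStructure.D4Fixed Cfsg.Agent.ChevalleyStructure.D4NCheck Cfsg.Agent.ChevalleyStructure.GraphSymm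
open Cfsg.Agent.ChevalleyStructure.D4TwN Cfsg.Agent.ChevalleyStructure.D4Perm
open Cfsg.Agent.ChevalleyStructure.D4NConj (nG_conj)

theorem so_D4 : (SO chevD4 18 23 ∧ SO chevD4 13 23 ∧ SO chevD4 12 23) ∧
    (SO chevD4 18 13 ∧ SO chevD4 18 12 ∧ SO chevD4 13 12) ∧
    chevD4.neg 18 = 5 ∧ chevD4.neg 13 = 10 ∧ chevD4.neg 12 = 11 := by decide +kernel

theorem refl_D4 : rfl' 1 (rfl' 0 (rfl' 2 (rfl' 3 14))) = 23 ∧ rfl' 3 14 < 24 ∧ rfl' 2 (rfl' 3 14) < 24 ∧
    rfl' 0 (rfl' 2 (rfl' 3 14)) < 24 := by decide +kernel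

theorem xU_eq_xG {K : Type u} [Field K] (r : ℕ) (t : K) : D4Cols.xU r t = xG inList_D4 r t := Units.ext rfl

theorem six_twD4_two {K : Type u} [Field K] [Finite K] (h2 : (2 : K) = 0) {q : ℕ} {φ : K →+* K}
    (hφ : ∀ x, φ x = x ^ q) (e : G ≃* twistedD4 K q) : Six G := by
  refine Six.congr ?_ e.symm
  have h18 : 18 < chevD4.nroots := by decide +kernel
  have h13 : 13 < chevD4.nroots := by decide +kernel
  have h12 : 12 < chevD4.nroots := by decide +kernel
  have h14 : 14 < chevD4.nroots := by decide +kernel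
  obtain ⟨⟨o1, o3, o4⟩, ⟨o13, o14, o34⟩, n1, n3, n4⟩ := so_D4
  -- the involution
  obtain ⟨u, hu⟩ : ∃ u : K, (nB K * nA K) * xG inList_D4 14 1 * (nB K * nA K)⁻¹ = xG inList_D4 23 u := by
    obtain ⟨r1, r2, r3, r4⟩ := refl_D4
    have e0 : (xG inList_D4 14 1 : GL chevD4.Idx K) = D4Comm.xG 14 1 := Units.ext rfl
    rw [e0]
    have c : ∀ i s, i < 4 → s < 24 → ∀ t : K, ∃ u, D4NConj.nG K i * D4Comm.xG s t * (D4NConj.nG K i)⁻¹ =
        D4Comm.xG (rfl' i s) u := fun i s hi hs t => ⟨_, nG_conj hi hs t⟩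
    obtain ⟨u3, h3⟩ := c 3 14 (by norm_num) (by norm_num) 1
    obtain ⟨u2, h2'⟩ := c 2 _ (by norm_num) r2 u3
    obtain ⟨u0, h0⟩ := c 0 _ (by norm_num) r3 u2
    obtain ⟨u1, h1⟩ := c 1 _ (by norm_num) r4 u0
    refine ⟨u1, ?_⟩
    calc nB K * nA K * D4Comm.xG 14 1 * (nB K * nA K)⁻¹
        = D4NConj.nG K 1 * (D4NConj.nG K 0 * (D4NConj.nG K 2 * (D4NConj.nG K 3 * D4Comm.xG 14 1 *
            (D4NConj.nG K 3)⁻¹) * (D4NConj.nG K 2)⁻¹) * (D4NConj.nG K 0)⁻¹) * (D4NConj.nG K 1)⁻¹ := by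
          rw [nA_def, nB_def]; group
      _ = D4Comm.xG 23 u1 := by rw [h3, h2', h0, h1, r1]
      _ = _ := Units.ext rfl
  have hg : nB K * nA K ∈ twistedD4 K q := mul_mem (nB_mem_twisted hφ) (nA_mem_twisted hφ)
  have hx14 : xG inList_D4 14 1 ∈ twistedD4 K q := by
    rw [← xU_eq_xG]
    exact x14_mem (one_pow q)
  have hx : xG inList_D4 23 u ∈ twistedD4 K q := by
    rw [← hu]
    exact mul_mem (mul_mem hg hx14) (inv_mem hg)
  have hx1 : xG inList_D4 23 u ≠ 1 := by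
    rw [← hu]
    intro h
    rw [mul_inv_eq_one, mul_eq_left] at h
    exact x_ne inList_D4 h2 h14 h
  -- the element of order three
  have hX : xG inList_D4 18 1 * xG inList_D4 13 1 * xG inList_D4 12 1 ∈ twistedD4 K q := by
    have h := X_mem (φ := φ) hφ 1
    unfold X at h
    rw [map_one, map_one, xU_eq_xG, xU_eq_xG, xU_eq_xG] at h
    exact h
  have hY : xG inList_D4 5 1 * xG inList_D4 10 1 * xG inList_D4 11 1 ∈ twistedD4 K q := by
    have h := Y_mem (φ := φ) hφ 1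
    unfold Y at h
    rw [map_one, map_one, xU_eq_xG, xU_eq_xG, xU_eq_xG] at h
    exact h
  have z1 := z_cube (F := K) inList_D4 h2 h18
  have z3 := z_cube (F := K) inList_D4 h2 h13
  have z4 := z_cube (F := K) inList_D4 h2 h12
  have nc := not_comm_two (F := K) inList_D4 h18 h2
  rw [n1] at z1 nc
  rw [n3] at z3
  rw [n4] at z4
  obtain ⟨a1, a2, a3, a4⟩ := o13
  obtain ⟨b1, b2, b3, b4⟩ := o14
  obtain ⟨c1, c2, c3, c4⟩ := o34
  obtain ⟨d1, -, d3, -⟩ := o1
  obtain ⟨f1, -, f3, -⟩ := o3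
  obtain ⟨g1, -, g3, -⟩ := o4
  rw [n1] at a3 a4 b3 b4 d3
  rw [n3] at a2 a4 c3 c4 f3
  rw [n4] at b2 b4 c2 c4 g3
  have A1 : Commute (xG inList_D4 18 (1 : K)) (xG inList_D4 13 1) := comm_of_so inList_D4 a1 1 1
  have A2 : Commute (xG inList_D4 18 (1 : K)) (xG inList_D4 10 1) := comm_of_so inList_D4 a2 1 1
  have A3 : Commute (xG inList_D4 5 (1 : K)) (xG inList_D4 13 1) := comm_of_so inList_D4 a3 1 1
  have A4 : Commute (xG inList_D4 5 (1 : K)) (xG inList_D4 10 1) := comm_of_so inList_D4 a4 1 1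
  have B1 : Commute (xG inList_D4 18 (1 : K)) (xG inList_D4 12 1) := comm_of_so inList_D4 b1 1 1
  have B2 : Commute (xG inList_D4 18 (1 : K)) (xG inList_D4 11 1) := comm_of_so inList_D4 b2 1 1
  have B3 : Commute (xG inList_D4 5 (1 : K)) (xG inList_D4 12 1) := comm_of_so inList_D4 b3 1 1
  have B4 : Commute (xG inList_D4 5 (1 : K)) (xG inList_D4 11 1) := comm_of_so inList_D4 b4 1 1
  have C1 : Commute (xG inList_D4 13 (1 : K)) (xG inList_D4 12 1) := comm_of_so inList_D4 c1 1 1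
  have C2 : Commute (xG inList_D4 13 (1 : K)) (xG inList_D4 11 1) := comm_of_so inList_D4 c2 1 1
  have C3 : Commute (xG inList_D4 10 (1 : K)) (xG inList_D4 12 1) := comm_of_so inList_D4 c3 1 1
  have C4 : Commute (xG inList_D4 10 (1 : K)) (xG inList_D4 11 1) := comm_of_so inList_D4 c4 1 1
  have D1 : Commute (xG inList_D4 18 (1 : K)) (xG inList_D4 23 u) := comm_of_so inList_D4 d1 1 u
  have D3 : Commute (xG inList_D4 5 (1 : K)) (xG inList_D4 23 u) := comm_of_so inList_D4 d3 1 u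
  have F1 : Commute (xG inList_D4 13 (1 : K)) (xG inList_D4 23 u) := comm_of_so inList_D4 f1 1 u
  have F3 : Commute (xG inList_D4 10 (1 : K)) (xG inList_D4 23 u) := comm_of_so inList_D4 f3 1 u
  have G1 : Commute (xG inList_D4 12 (1 : K)) (xG inList_D4 23 u) := comm_of_so inList_D4 g1 1 u
  have G3 : Commute (xG inList_D4 11 (1 : K)) (xG inList_D4 23 u) := comm_of_so inList_D4 g3 1 u
  have hu2 : xG inList_D4 23 u * xG inList_D4 23 u = 1 := x_sq inList_D4 h2 23 u
  generalize xG inList_D4 18 (1 : K) = p1 at *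
  generalize xG inList_D4 13 (1 : K) = p3 at *
  generalize xG inList_D4 12 (1 : K) = p4 at *
  generalize xG inList_D4 5 (1 : K) = m1 at *
  generalize xG inList_D4 10 (1 : K) = m3 at *
  generalize xG inList_D4 11 (1 : K) = m4 at *
  generalize xG inList_D4 23 u = x at *
  -- rearranging
  have P13 : Commute (p1 * m1) (p3 * m3) := (A1.mul_right A2).mul_left (A3.mul_right A4)
  have P14 : Commute (p1 * m1) (p4 * m4) := (B1.mul_right B2).mul_left (B3.mul_right B4)
  have P34 : Commute (p3 * m3) (p4 * m4) := (C1.mul_right C2).mul_left (C3.mul_right C4)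
  have hy : p1 * p3 * p4 * (m1 * m3 * m4) = (p1 * m1) * (p3 * m3) * (p4 * m4) := by
    calc p1 * p3 * p4 * (m1 * m3 * m4) = p1 * p3 * (p4 * m1) * m3 * m4 := by simp only [mul_assoc]
      _ = p1 * p3 * (m1 * p4) * m3 * m4 := by rw [B3.eq]
      _ = p1 * (p3 * m1) * (p4 * m3) * m4 := by simp only [mul_assoc]
      _ = p1 * (m1 * p3) * (m3 * p4) * m4 := by rw [A3.eq, C3.eq]
      _ = _ := by simp only [mul_assoc]
  have hyx : Commute (p1 * p3 * p4 * (m1 * m3 * m4)) x :=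
    ((D1.mul_left F1).mul_left G1).mul_left ((D3.mul_left F3).mul_left G3)
  refine ⟨⟨x, hx⟩, ⟨_, mul_mem hX hY⟩, Subtype.ext hyx.symm.eq, ?_, Subtype.ext hu2, ?_, Subtype.ext ?_⟩
  · intro h
    exact hx1 (congrArg Subtype.val h)
  · intro h
    have h1 : p1 * p3 * p4 * (m1 * m3 * m4) = 1 := congrArg Subtype.val h
    rw [hy, mul_assoc] at h1
    apply nc
    have h3 : p1 * m1 = ((p3 * m3) * (p4 * m4))⁻¹ := eq_inv_of_mul_eq_one_left h1
    have h4 : Commute ((p3 * m3) * (p4 * m4)) p1 :=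
      ((A1.symm.mul_left A2.symm).mul_left (B1.symm.mul_left B2.symm))
    rw [h3]
    exact h4.inv_left.eq
  · change p1 * p3 * p4 * (m1 * m3 * m4) * (p1 * p3 * p4 * (m1 * m3 * m4)) * (p1 * p3 * p4 * (m1 * m3 * m4)) = 1
    rw [hy]
    have hz : ∀ a b c : GL chevD4.Idx K, Commute a b → Commute a c → Commute b c → a * a * a = 1 → b * b * b = 1 →
        c * c * c = 1 → a * b * c * (a * b * c) * (a * b * c) = 1 := by
      intro a b c hab hac hbc ha hb hc
      have e1 : (a * b * c) ^ 3 = a ^ 3 * b ^ 3 * c ^ 3 := by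
        rw [(hac.mul_left hbc).mul_pow, hab.mul_pow]
      have e2 : a * b * c * (a * b * c) * (a * b * c) = (a * b * c) ^ 3 := by rw [pow_succ, pow_two]
      have e3 : ∀ z : GL chevD4.Idx K, z * z * z = 1 → z ^ 3 = 1 := by
        intro z hz
        rw [pow_succ, pow_two, hz]
      rw [e2, e1, e3 a ha, e3 b hb, e3 c hc, one_mul, one_mul]
    exact hz _ _ _ P13 P14 P34 z1 z3 z4

end TwD

end Cfsg.Agent.H318
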