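import Cfsg.Agent.H318.CompB
import Cfsg.Agent.H318.OutFi24
import Cfsg.Agent.H283.OddSpor
import Cfsg.Agent.H284.AltComp
import Cfsg.Agent.H287.FixInn
import Cfsg.Agent.H723.Spor.MOrders
import Cfsg.Agent.CpAut.TwoInnerB
import Cfsg.Agent.CTwoTab.FiTF
import Cfsg.Agent.OrdDiv.Table
import Cfsg.Agent.S0365

/-!
# `M₂₄` is not a normal component of the fixed points of an involutory automorphism of a simple group (helper318)

`no_m24` : `X` a known simple group, `x ≠ 1` an automorphism of square one, `A` a normal component of `C_X(x)`: `A` is not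
isomorphic to `M₂₄`.
-/

set_option autoImplicit false

namespace Cfsg.Agent.H318.StdM24

open Cfsg Subgroup Cfsg.Agent.OrdDiv Cfsg.Agent.H287
open Cfsg.Agent.SignalizersComponents.Components

universe u v

/-- no component is isomorphic to `M₂₄` -/
def NoM (H : Type u) [Group H] : Prop := ∀ K : Subgroup H, IsComponent K → ¬ Nonempty (↥K ≃* ↥M24)

theorem NoM.congr {H : Type u} {H' : Type v} [Group H] [Group H'] (e : H ≃* H') (h : NoM H) : NoM H' := by
  rintro K hK ⟨f⟩
  refine h _ (isComponent_map_equiv e.symm hK) ⟨?_⟩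
  exact (K.equivMapOfInjective e.symm.toMonoidHom e.symm.injective).symm.trans f

theorem card_m24 : Nat.card ↥M24 = 244823040 := NotCT.Orders.m24 ⟨MulEquiv.refl _⟩

theorem NoM.of_hcard {S : ℕ → ℕ → Prop} {H : Type u} [Group H] (h : HCard S H) (hS : ∀ m, ¬ S 244823040 m) :
    NoM H := by
  rintro K hK ⟨f⟩
  have h1 := h K hK
  rw [Nat.card_congr f.toEquiv, card_m24] at h1
  exact hS _ h1

theorem NoM.of_fix {S : ℕ → ℕ → Prop} {X : Type u} [Group X] (h : FixCard S X) (hS : ∀ m, ¬ S 244823040 m)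
    {x : MulAut X} (hx : orderOf x = 2) : NoM ↥(fixedSubgroup x) := NoM.of_hcard (h x hx) hS

theorem spor_m24 : IsSporadicGroup ↥M24 := by
  have : Spor.IsoM24 ↥M24 := ⟨MulEquiv.refl _⟩
  unfold IsSporadicGroup
  tauto

theorem eight_m24 : H292.Oct.Eight ↥M24 := by
  obtain ⟨x, hx⟩ := H723.Spor.MOrders.order8
  refine ⟨x, by rw [← hx, pow_orderOf_eq_one], fun h => ?_⟩
  have h1 := orderOf_dvd_of_pow_eq_one h
  rw [hx] at h1
  exact absurd h1 (by norm_num)

theorem center_m24 : center ↥M24 = ⊥ := by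
  have hs : IsSimpleGroup ↥M24 := Cfsg.Agent.S0365.result
  exact CpAut.TwoInner.center_eq_bot_of_card hs (by rw [card_m24]; norm_num)

/-! ### the Baby Monster -/

theorem cent_b (g : Spor.BabyMonster) (hg : orderOf g = 2) : NoM ↥(centralizer ({g} : Set Spor.BabyMonster)) := by
  rintro K hK ⟨f⟩
  have h1 : K.map (centralizer ({g} : Set Spor.BabyMonster)).subtype ≤ centralizer ({g} : Set Spor.BabyMonster) :=
    map_subtype_le K
  have h2 := CompB.comp_b g hg (K.map (centralizer ({g} : Set Spor.BabyMonster)).subtype)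
    ⟨h1, by rwa [map_subgroupOf]⟩
  have e1 : ↥(K.map (centralizer ({g} : Set Spor.BabyMonster)).subtype) ≃* ↥M24 :=
    (K.equivMapOfInjective _ (subtype_injective _)).symm.trans f
  rcases h2.congr e1 with h | h
  · have h3 : Nat.card (↥M24 ⧸ center ↥M24) ∣ Nat.card ↥M24 := card_quotient_dvd_card _
    rw [h, card_m24] at h3
    exact absurd h3 (by norm_num)
  · exact TwoComp.chev_not_spor h spor_m24

theorem fix_b {X : Type u} [Group X] (h : Spor.IsoB X) {x : MulAut X} (hx : orderOf x = 2) :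
    NoM ↥(fixedSubgroup x) := by
  obtain ⟨e⟩ := h
  obtain ⟨g, hg⟩ := CpAut.TwoInner.inner_b (MulAut.congr e x)
  have h0 : IsB Spor.BabyMonster := S1704.result
  have : Finite Spor.BabyMonster := Nat.finite_of_card_ne_zero (by rw [h0.2]; norm_num)
  have hc : center Spor.BabyMonster = ⊥ := CpAut.TwoInner.center_eq_bot_of_card h0.1 (by rw [h0.2]; norm_num)
  have h1 : orderOf (MulAut.congr e x) = 2 := by rw [MulEquiv.orderOf_eq, hx]
  rw [hg, CpAut.orderOf_conj hc] at h1
  have h2 := cent_b g h1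
  rw [← CpAut.fixedSubgroup_conj, ← hg] at h2
  exact h2.congr (CpAut.fixEquiv e x).symm

/-! ### `Fi₂₄'` -/

theorem fix_fi24 {X : Type u} [Group X] (h : Spor.IsoFi24' X) {x : MulAut X} (hx : orderOf x = 2) :
    NoM ↥(fixedSubgroup x) := by
  by_cases ho : ∃ g : X, x = MulAut.conj g
  · obtain ⟨e⟩ := h
    obtain ⟨g, rfl⟩ := ho
    have h0 : IsFi24' Spor.Fi24' := S1698.result
    have : Finite Spor.Fi24' := Nat.finite_of_card_ne_zero (by rw [h0.2]; norm_num)
    have hc : center Spor.Fi24' = ⊥ := CpAut.TwoInner.center_eq_bot_of_card h0.1 (by rw [h0.2]; norm_num)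
    have hcX : center X = ⊥ := by
      rw [← CTwoTab.map_center_equiv e.symm, hc, Subgroup.map_bot]
    rw [CpAut.orderOf_conj hcX] at hx
    rw [CpAut.fixedSubgroup_conj]
    have hC := CTwoTab.FiTF.compCard.of_equiv e.symm
    exact NoM.of_hcard (S := fun n m => n = 2 * 64561751654400 ∧ m = 64561751654400) (HCard.of_comp (hC g hx))
      (by rintro m ⟨h, -⟩; norm_num at h)
  · exact NoM.of_hcard (OutFi24.outCard_fi24 h x hx ho) (by rintro m (h | h) <;> norm_num at h)

/-! ### the sporadic groups -/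

theorem chk_dvd : ∀ y ∈ spor, y.1 ∉ ([.m24, .j4, .co1, .co2, .co3, .fi23, .fi24, .b, .m] : List Grp) →
    ¬ 244823040 ∣ y.2 := by decide +kernel

theorem spor_grp {X : Type u} [Group X] [Finite X] (g : Grp) (hg : g ∈ spor.map (fun x => x.1))
    (hg' : g ∉ ([.m24, .j4, .co1, .co2, .co3, .fi23, .fi24, .b, .m] : List Grp)) (hS : OrdDiv.Real g X)
    {x : MulAut X} : NoM ↥(fixedSubgroup x) := by
  rintro K hK ⟨f⟩
  obtain ⟨y, hy, rfl⟩ := List.mem_map.1 hg
  have h1 : Nat.card ↥K ∣ Nat.card X := (card_subgroup_dvd_card K).trans (card_subgroup_dvd_card _)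
  rw [OrdDiv.table.spor X y hy hS, Nat.card_congr f.toEquiv, card_m24] at h1
  exact chk_dvd y hy hg' h1

theorem spor_x {X : Type u} [Group X] [Finite X] [IsSimpleGroup X] (hs : IsSporadicGroup X) {x : MulAut X}
    (hx : orderOf x = 2) : NoM ↥(fixedSubgroup x) := by
  rcases hs with hs | hs | hs | hs | hs | hs | hs | hs | hs | hs | hs | hs | hs | hs | hs | hs | hs | hs | hs | hs | hs |
    hs | hs | hs | hs | hs
  · exact spor_grp .m11 (by decide) (by decide) hs
  · exact spor_grp .m12 (by decide) (by decide) hs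
  · exact spor_grp .m22 (by decide) (by decide) hs
  · exact spor_grp .m23 (by decide) (by decide) hs
  · exact NoM.of_fix (H287.fix_m24 hs) (by rintro m h; exact h) hx
  · exact spor_grp .j1 (by decide) (by decide) hs
  · exact spor_grp .j2 (by decide) (by decide) hs
  · exact spor_grp .j3 (by decide) (by decide) hs
  · exact NoM.of_fix (H287.fix_j4 hs) (by rintro m h; exact h) hx
  · exact NoM.of_fix (H287.fix_co1 hs) (by rintro m ⟨h, -⟩; norm_num at h) hx
  · exact NoM.of_fix (H287.fix_co2 hs) (by rintro m h; exact h) hx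
  · exact NoM.of_fix (H287.fix_co3 hs) (by rintro m (⟨h, -⟩ | ⟨h | h, -⟩) <;> norm_num at h) hx
  · exact spor_grp .mcl (by decide) (by decide) hs
  · exact spor_grp .hs (by decide) (by decide) hs
  · exact spor_grp .suz (by decide) (by decide) hs
  · exact spor_grp .he (by decide) (by decide) hs
  · exact spor_grp .ru (by decide) (by decide) hs
  · exact spor_grp .on (by decide) (by decide) hs
  · exact spor_grp .ly (by decide) (by decide) hs
  · exact spor_grp .fi22 (by decide) (by decide) hs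
  · exact NoM.of_fix (H287.fix_fi23 hs) (by rintro m (⟨h, -⟩ | ⟨-, h | h | h⟩) <;> norm_num at h) hx
  · exact fix_fi24 hs hx
  · exact spor_grp .hn (by decide) (by decide) hs
  · exact spor_grp .th (by decide) (by decide) hs
  · exact fix_b hs hx
  · exact NoM.of_fix (H287.fix_m hs) (by rintro m ⟨h, -⟩; norm_num at h) hx

/-! ### the theorem -/

/-- **`M₂₄` is not a normal component of `C_X(x)`.** -/
theorem no_m24 {X : Type u} [Group X] [Finite X] [IsSimpleGroup X] (hna : ¬ IsMulCommutative X)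
    (hk : IsKnownSimple' X) {x : MulAut X} (hxx : x * x = 1) (hx1 : x ≠ 1) {A : Subgroup ↥(fixedSubgroup x)}
    (hAn : A.Normal) (hA : IsComponent A) (e : ↥A ≃* ↥M24) : False := by
  have hcA : Nat.card ↥A = 244823040 := by rw [Nat.card_congr e.toEquiv, card_m24]
  have hZ : center ↥A = ⊥ := by
    rw [← CTwoTab.map_center_equiv e.symm, center_m24, Subgroup.map_bot]
  have hq : ↥A ⧸ center ↥A ≃* ↥M24 :=
    ((QuotientGroup.quotientMulEquivOfEq hZ).trans QuotientGroup.quotientBot).trans e
  have hsp : IsSporadicGroup (↥A ⧸ center ↥A) := OddHalf.Known.isSporadic_congr hq.symm spor_m24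
  rcases OddHalf.Known.classify hna hk with h | ⟨p, hp, hp2, h⟩ | h | h
  · obtain ⟨m, hm, ⟨f⟩⟩ := h
    obtain ⟨n, k, hn, -, -, ⟨g⟩, -⟩ := H284.AltComp.table hm f hxx hx1 hA
    have hn2 : Nontrivial (Fin n) := Fin.nontrivial_iff_two_le.2 (by omega)
    have h2 : 2 * Nat.card ↥A = n.factorial := by
      rw [Nat.card_congr g.toEquiv, Nat.card_eq_fintype_card, two_mul_card_alternatingGroup, Fintype.card_perm,
        Fintype.card_fin]
    rw [Nat.card_congr e.toEquiv] at h2
    exact H677.OrdSporIso.alt_spor (Or.inl spor_m24) h2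
  · exact H283.OddSpor.no_spor hp hp2 h (by rw [pow_two]; exact hxx) hA hsp
  · rcases h with h | h
    · have h8 : H292.Oct.Eight ↥A := eight_m24.map e.symm.toMonoidHom e.symm.injective
      have h1 := TwoComp.two_comp hna h hxx hx1 hA h8
      exact TwoComp.chev_not_spor (CTwoTab.isChevSimple_congr e h1) spor_m24
    · have h1 : Nat.card ↥A ∣ Nat.card X := (card_subgroup_dvd_card A).trans (card_subgroup_dvd_card _)
      rw [NotCT.Orders.tits h, hcA] at h1
      exact absurd h1 (by norm_num)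
  · have hx : orderOf x = 2 := orderOf_eq_prime (by rw [pow_two, hxx]) hx1
    exact spor_x h hx A hA ⟨e⟩

end Cfsg.Agent.H318.StdM24
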